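import Mathlib.LinearAlgebra.Matrix.SpecialLinearGroup
import Mathlib.LinearAlgebra.Matrix.SchurComplement
import Mathlib.LinearAlgebra.Matrix.ToLin
import Mathlib.LinearAlgebra.Dual.Lemmas
import Mathlib.LinearAlgebra.Dimension.Free
import Mathlib.GroupTheory.Nilpotent
import Mathlib.Algebra.CharP.Lemmas
import Mathlib.FieldTheory.Finite.Basic

/-!
`p`-subgroups of `SL_n` in characteristic `p` closed under the shears along their fixed space.
-/

set_option autoImplicit false
set_option linter.unusedSectionVars false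

namespace CfsgLib.SLBlocks

open Matrix

variable {F : Type*} [Field F] [Finite F] {n : ℕ}

local notation "G" => SpecialLinearGroup (Fin n) F
local notation "V" => Fin n → F

theorem act_mul (g h : G) (v : V) : (g * h).1 *ᵥ v = g.1 *ᵥ (h.1 *ᵥ v) :=
  (Matrix.mulVec_mulVec v g.1 h.1).symm

theorem act_one (v : V) : (1 : G).1 *ᵥ v = v := Matrix.one_mulVec v

theorem act_inv_cancel (g : G) (v : V) : g⁻¹.1 *ᵥ (g.1 *ᵥ v) = v := by
  rw [← act_mul, inv_mul_cancel, act_one]

theorem act_cancel_inv (g : G) (v : V) : g.1 *ᵥ (g⁻¹.1 *ᵥ v) = v := by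
  rw [← act_mul, mul_inv_cancel, act_one]

theorem ext_act {g h : G} (e : ∀ v, g.1 *ᵥ v = h.1 *ᵥ v) : g = h :=
  Subtype.ext (Matrix.ext_iff_mulVec.2 e)

/-- the fixed vectors -/
def fixW (D : Subgroup G) : Submodule F V where
  carrier := {v | ∀ d ∈ D, d.1 *ᵥ v = v}
  add_mem' := fun {a b} ha hb d hd => by rw [Matrix.mulVec_add, ha d hd, hb d hd]
  zero_mem' := fun d _ => Matrix.mulVec_zero _
  smul_mem' := fun c a ha d hd => by rw [Matrix.mulVec_smul, ha d hd]

/-- the shears along a subspace -/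
def shear (W : Submodule F V) : Subgroup G where
  carrier := {g | (∀ v, g.1 *ᵥ v - v ∈ W) ∧ ∀ w ∈ W, g.1 *ᵥ w = w}
  mul_mem' := fun {a b} ha hb => ⟨fun v => by
      rw [act_mul, ← sub_add_sub_cancel (a.1 *ᵥ (b.1 *ᵥ v)) (b.1 *ᵥ v) v]
      exact add_mem (ha.1 _) (hb.1 _),
    fun w hw => by rw [act_mul, hb.2 w hw, ha.2 w hw]⟩
  one_mem' := ⟨fun v => by rw [act_one, sub_self]; exact zero_mem _, fun w _ => act_one w⟩
  inv_mem' := fun {a} ha => ⟨fun v => by
      have h := ha.1 (a⁻¹.1 *ᵥ v)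
      rw [act_cancel_inv] at h
      simpa using W.neg_mem h,
    fun w hw => by
      conv_lhs => rw [← ha.2 w hw]
      rw [act_inv_cancel]⟩

theorem shear_comp {W : Submodule F V} {g : G} (hg : g ∈ shear W) (k : ℕ) (v : V) :
    (g ^ k).1 *ᵥ v = v + (k : F) • (g.1 *ᵥ v - v) := by
  induction k with
  | zero => rw [pow_zero, act_one, Nat.cast_zero, zero_smul, add_zero]
  | succ k ih =>
    rw [pow_succ', act_mul, ih, Matrix.mulVec_add, Matrix.mulVec_smul, hg.2 _ (hg.1 v),
      Nat.cast_succ, add_smul, one_smul]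
    abel

theorem isPGroup_shear (p : ℕ) [CharP F p] (W : Submodule F V) : IsPGroup p (shear W) := by
  intro g
  refine ⟨1, Subtype.ext (ext_act fun v => ?_)⟩
  rw [Subgroup.coe_pow, shear_comp g.2, pow_one, CharP.cast_eq_zero, zero_smul, add_zero,
    Subgroup.coe_one, act_one]

theorem fixW_stable {D : Subgroup G} {g : G} (hg : g ∈ Subgroup.normalizer (D : Set G)) {v : V}
    (hv : v ∈ fixW D) : g.1 *ᵥ v ∈ fixW D := by
  intro d hd
  have h : g⁻¹ * d * g ∈ D := by
    have := (Subgroup.mem_normalizer_iff'.1 hg (g⁻¹ * d)).2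
    simpa [mul_assoc] using this (by simpa [mul_assoc] using hd)
  rw [← act_mul, show d * g = g * (g⁻¹ * d * g) by group, act_mul, hv _ h]

theorem normalizer_le_shear (D : Subgroup G) :
    Subgroup.normalizer (D : Set G) ≤ Subgroup.normalizer (shear (fixW D) : Set G) := by
  have key : ∀ g ∈ Subgroup.normalizer (D : Set G), ∀ s ∈ shear (fixW D),
      g * s * g⁻¹ ∈ shear (fixW D) := by
    intro g hg s hs
    refine ⟨fun v => ?_, fun w hw => ?_⟩
    · have h := fixW_stable hg (hs.1 (g⁻¹.1 *ᵥ v))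
      rw [Matrix.mulVec_sub, act_cancel_inv, ← act_mul, ← act_mul] at h
      exact h
    · rw [act_mul, act_mul, hs.2 _ (fixW_stable (inv_mem hg) hw), act_cancel_inv]
  intro g hg
  refine Subgroup.mem_normalizer_iff.2 fun s => ⟨key g hg s, fun h => ?_⟩
  have := key g⁻¹ (inv_mem hg) _ h
  simpa [mul_assoc] using this

variable {p : ℕ} [Fact p.Prime] [CharP F p]

theorem fixW_ne_bot [NeZero n] {D : Subgroup G} (hD : IsPGroup p D) : fixW D ≠ ⊥ := by
  intro h
  let act : MulAction D V :=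
    { smul := fun d v => (d : G).1 *ᵥ v
      one_smul := fun v => act_one v
      mul_smul := fun a b v => act_mul (a : G) (b : G) v }
  have hdvd : p ∣ Nat.card V := by
    have := Fintype.ofFinite F
    obtain ⟨k, hp, hk⟩ := FiniteField.card F p
    rw [Nat.card_fun, Nat.card_eq_fintype_card, Nat.card_fin, hk, ← pow_mul]
    exact dvd_pow_self p (mul_ne_zero k.pos.ne' (NeZero.ne n))
  have h0 : (0 : V) ∈ MulAction.fixedPoints D V := fun d => Matrix.mulVec_zero _
  obtain ⟨b, hb, hne⟩ := hD.exists_fixed_point_of_prime_dvd_card_of_fixed_point V hdvd h0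
  have : b ∈ fixW D := fun d hd => hb ⟨d, hd⟩
  rw [h, Submodule.mem_bot] at this
  exact hne this.symm

theorem fixW_ne_top {D : Subgroup G} (hD : D ≠ ⊥) : fixW D ≠ ⊤ := by
  intro h
  refine hD (eq_bot_iff.2 fun d hd => Subgroup.mem_bot.2 (ext_act fun v => ?_))
  rw [act_one]
  have hv : v ∈ fixW D := by rw [h]; trivial
  exact hv d hd

/-- if `D` is its own intersection with the normalised shears, it contains them -/
theorem shear_le {D : Subgroup G} (hD : IsPGroup p D)
    (h : shear (fixW D) ⊓ Subgroup.normalizer (D : Set G) ≤ D) : shear (fixW D) ≤ D := by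
  set Q := shear (fixW D) with hQ
  set K := Q ⊔ D with hK
  have hKp : IsPGroup p K :=
    (isPGroup_shear (F := F) p (fixW D)).to_sup_of_normal_left' hD
      ((Subgroup.le_normalizer).trans (normalizer_le_shear D))
  have hmem : ∀ g ∈ K, ∃ q ∈ Q, ∃ d ∈ D, g = q * d := by
    intro g hg
    have hsup := Subgroup.coe_mul_of_right_le_normalizer_left Q D
      ((Subgroup.le_normalizer).trans (normalizer_le_shear D))
    rw [← SetLike.mem_coe, hK, hsup] at hg
    obtain ⟨q, hq, d, hd, rfl⟩ := hg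
    exact ⟨q, hq, d, hd, rfl⟩
  by_contra hne
  have : Group.IsNilpotent K := hKp.isNilpotent
  have hlt : D.subgroupOf K < ⊤ := by
    rw [lt_top_iff_ne_top]
    intro htop
    exact hne fun q hq => (Subgroup.mem_subgroupOf (K := K)).1
      (htop.symm ▸ Subgroup.mem_top (⟨q, Subgroup.mem_sup_left hq⟩ : K) :
        (⟨q, Subgroup.mem_sup_left hq⟩ : K) ∈ D.subgroupOf K)
  obtain ⟨g, hgN, hgD⟩ := SetLike.exists_of_lt (Group.normalizerCondition_of_isNilpotent _ hlt)
  rw [Subgroup.mem_subgroupOf] at hgD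
  obtain ⟨q, hq, d, hd, hgd⟩ := hmem (g : G) g.2
  have hgN' : (g : G) ∈ Subgroup.normalizer (D : Set G) := by
    rw [← Subgroup.subgroupOf_normalizer_eq (le_sup_right : D ≤ K)] at hgN
    exact hgN
  have hqN : q ∈ Subgroup.normalizer (D : Set G) := by
    rw [show q = (g : G) * d⁻¹ by rw [hgd, mul_inv_cancel_right]]
    exact mul_mem hgN' (Subgroup.le_normalizer (inv_mem hd))
  exact hgD (hgd ▸ mul_mem (h ⟨hq, hqN⟩) hd)

/-- a regular element centralising the shears along a proper subspace is central -/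
theorem mem_center_of_shear {W : Submodule F V} (hW0 : W ≠ ⊥) (hW1 : W ≠ ⊤) {x : G}
    (hreg : ¬ p ∣ orderOf x) (hc : ∀ g ∈ shear W, x * g = g * x) : x ∈ Subgroup.center G := by
  classical
  -- the rank one shears
  have key : ∀ v ∈ W, ∀ f : V →ₗ[F] F, (∀ w ∈ W, f w = 0) → ∀ u,
      f u • (x.1 *ᵥ v) = f (x.1 *ᵥ u) • v := by
    intro v hv f hf u
    let r : Fin n → F := fun j => f (Pi.single j 1)
    have hr : ∀ u, dotProduct r u = f u := by
      intro u
      conv_rhs => rw [pi_eq_sum_univ' u]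
      rw [map_sum, dotProduct]
      refine Finset.sum_congr rfl fun j _ => ?_
      rw [map_smul, smul_eq_mul, mul_comm]
    let T : Matrix (Fin n) (Fin n) F := 1 + Matrix.replicateCol (Fin 1) v * Matrix.replicateRow (Fin 1) r
    have hT : T.det = 1 := by
      rw [show T.det = 1 + dotProduct r v from Matrix.det_one_add_replicateCol_mul_replicateRow v r,
        hr, hf v hv, add_zero]
    have hTv : ∀ u, T *ᵥ u = u + f u • v := by
      intro u
      ext i
      simp only [T, Matrix.add_mulVec, Matrix.one_mulVec, Pi.add_apply, Pi.smul_apply, smul_eq_mul]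
      congr 1
      simp only [Matrix.mulVec, dotProduct, Matrix.mul_apply, Finset.univ_unique, Finset.sum_singleton,
        Matrix.replicateCol_apply, Matrix.replicateRow_apply]
      rw [← hr u, dotProduct, Finset.sum_mul]
      exact Finset.sum_congr rfl fun j _ => by ring
    let g : G := ⟨T, hT⟩
    have hg : g ∈ shear W := ⟨fun u => by
        show T *ᵥ u - u ∈ W
        rw [hTv, add_sub_cancel_left]; exact W.smul_mem _ hv,
      fun w hw => by
        show T *ᵥ w = w
        rw [hTv, hf w hw, zero_smul, add_zero]⟩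
    have h1 : x.1 *ᵥ (T *ᵥ u) = T *ᵥ (x.1 *ᵥ u) := by
      rw [← show (x * g).1 *ᵥ u = x.1 *ᵥ (T *ᵥ u) from act_mul x g u, hc g hg]
      exact act_mul g x u
    rw [hTv, hTv, Matrix.mulVec_add, Matrix.mulVec_smul] at h1
    exact add_left_cancel h1
  obtain ⟨v₀, hv₀, hv₀0⟩ := W.ne_bot_iff.1 hW0
  obtain ⟨u₁, hu₁⟩ : ∃ u, u ∉ W := by
    by_contra h
    push Not at h
    exact hW1 (eq_top_iff.2 fun u _ => h u)
  obtain ⟨f₁, hf₁, hf₁W⟩ := Submodule.exists_dual_map_eq_bot_of_notMem hu₁ inferInstance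
  have hf₁' : ∀ w ∈ W, f₁ w = 0 := fun w hw => by
    have : f₁ w ∈ W.map f₁ := ⟨w, hw, rfl⟩
    rwa [hf₁W, Submodule.mem_bot] at this
  set c := f₁ (x.1 *ᵥ u₁) / f₁ u₁ with hc'
  have hW : ∀ v ∈ W, x.1 *ᵥ v = c • v := fun v hv => by
    have h := congrArg (fun z => (f₁ u₁)⁻¹ • z) (key v hv f₁ hf₁' u₁)
    simp only [smul_smul, inv_mul_cancel₀ hf₁, one_smul] at h
    rw [h, hc', div_eq_inv_mul]
  have hmod : ∀ u, x.1 *ᵥ u - c • u ∈ W := by
    intro u
    by_contra hu
    obtain ⟨f, hf, hfW⟩ := Submodule.exists_dual_map_eq_bot_of_notMem hu inferInstance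
    have hf' : ∀ w ∈ W, f w = 0 := fun w hw => by
      have : f w ∈ W.map f := ⟨w, hw, rfl⟩
      rwa [hfW, Submodule.mem_bot] at this
    have h := key v₀ hv₀ f hf' u
    rw [hW v₀ hv₀, smul_smul] at h
    have h2 := sub_eq_zero.2 h
    rw [← sub_smul, smul_eq_zero, or_iff_left hv₀0, sub_eq_zero] at h2
    exact hf (by rw [map_sub, map_smul, smul_eq_mul, ← h2, mul_comm, sub_self])
  have hc0 : c ≠ 0 := by
    intro h
    have := hW v₀ hv₀
    rw [h, zero_smul] at this
    exact hv₀0 (by rw [← act_inv_cancel x v₀, this, Matrix.mulVec_zero])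
  have hpow : ∀ (k : ℕ) (u : V), (x ^ (k + 1)).1 *ᵥ u =
      c ^ (k + 1) • u + ((k + 1 : ℕ) : F) • (c ^ k • (x.1 *ᵥ u - c • u)) := by
    intro k
    induction k with
    | zero => intro u; rw [pow_one, pow_one, pow_zero, Nat.cast_one, one_smul, one_smul, add_sub_cancel]
    | succ k ih =>
      intro u
      rw [pow_succ', act_mul, ih u, Matrix.mulVec_add, Matrix.mulVec_smul, Matrix.mulVec_smul,
        Matrix.mulVec_smul, hW _ (hmod u), Nat.cast_succ (k + 1), pow_succ c (k + 1)]
      match_scalars <;> push_cast <;> ring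
  have hscal : ∀ u, x.1 *ᵥ u = c • u := by
    intro u
    obtain ⟨k, hk⟩ : ∃ k, orderOf x = k + 1 := ⟨orderOf x - 1, by
      have := orderOf_pos x; omega⟩
    have h := hpow k
    rw [← hk, pow_orderOf_eq_one] at h
    simp only [act_one] at h
    have hck : c ^ orderOf x = 1 := by
      have h' := h v₀
      rw [hW v₀ hv₀, sub_self, smul_zero, smul_zero, add_zero] at h'
      have h2 := sub_eq_zero.2 h'.symm
      conv at h2 => lhs; arg 2; rw [← one_smul F v₀]
      rw [← sub_smul, smul_eq_zero, or_iff_left hv₀0, sub_eq_zero] at h2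
      exact h2
    have h' := h u
    rw [hck, one_smul, left_eq_add, smul_eq_zero] at h'
    rcases h' with h' | h'
    · exact absurd ((CharP.cast_eq_zero_iff F p _).1 h') hreg
    · rw [smul_eq_zero, or_iff_right (pow_ne_zero _ hc0), sub_eq_zero] at h'
      exact h'
  refine Subgroup.mem_center_iff.2 fun g => ext_act fun u => ?_
  rw [act_mul, act_mul, hscal, hscal, Matrix.mulVec_smul]

end CfsgLib.SLBlocks
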