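import Cfsg.Agent.GLn.Degree
import Cfsg.Agent.GLn.Characters
import Cfsg.Agent.Char.Clifford
import Cfsg.Agent.Classical.LinearOrder

/-!
A character of `SL_n(p)` of degree the full `p`-part, trivial on the centre.
-/

set_option autoImplicit false
set_option linter.unusedSectionVars false
set_option linter.style.haveILetI false

namespace CfsgLib.SLBlocks

open Finset Matrix

theorem sum_two_tri (n : ℕ) : ∑ i ∈ Finset.range n, i * 2 + n = n * n := by
  induction n with
  | zero => rfl
  | succ n ih => rw [Finset.sum_range_succ]; nlinarith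

variable {p : ℕ} [hp : Fact p.Prime]

theorem not_dvd_qInt {r : ℕ} (hr : 0 < r) : ¬ p ∣ GLn.qInt p r := by
  obtain ⟨s, rfl⟩ : ∃ s, r = 1 + s := ⟨r - 1, by omega⟩
  rw [GLn.qInt_add, show GLn.qInt p 1 = 1 by simp [GLn.qInt], pow_one]
  intro h
  exact hp.out.ne_one (Nat.dvd_one.1 ((Nat.dvd_add_left (dvd_mul_right p _)).1 h))

theorem not_dvd_qFact (m : ℕ) : ¬ p ∣ GLn.qFact p m := by
  rw [GLn.qFact, hp.out.prime.dvd_finsetProd_iff]
  push Not
  exact fun j _ => not_dvd_qInt (Nat.succ_pos j)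

variable {n : ℕ}

/-- the `p`-part of the order of `SL_n(p)` -/
theorem card_sl_factorization (hn : 1 ≤ n) :
    (Nat.card (SpecialLinearGroup (Fin n) (ZMod p))).factorization p = ∑ i : Fin n, (i : ℕ) := by
  have h := CfsgLib.Linear.card_SL_mul (F := ZMod p) (q := p) (ZMod.card p) n hn
  have hp1 : ¬ p ∣ p - 1 := fun hd => by
    have := Nat.le_of_dvd (by have := hp.out.two_le; omega) hd
    have := hp.out.two_le
    omega
  have hpm : p - 1 ≠ 0 := fun e => hp1 (e ▸ dvd_zero p)
  have hterm : ∀ i : Fin n, p ^ n - p ^ (i : ℕ) = p ^ (i : ℕ) * (p ^ (n - i) - 1) := fun i => by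
    rw [Nat.mul_sub, mul_one, ← pow_add, Nat.add_sub_cancel' i.isLt.le]
  have hnd : ∀ i : Fin n, ¬ p ∣ p ^ (n - (i : ℕ)) - 1 := fun i hd => by
    have h1 : p ∣ p ^ (n - (i : ℕ)) := dvd_pow_self p (by omega)
    have h2 := Nat.dvd_sub h1 hd
    rw [show p ^ (n - (i : ℕ)) - (p ^ (n - (i : ℕ)) - 1) = 1 by
      have := Nat.one_le_pow (n - (i : ℕ)) p hp.out.pos; omega] at h2
    exact hp.out.ne_one (Nat.dvd_one.1 h2)
  have hne : ∀ i : Fin n, p ^ (n - (i : ℕ)) - 1 ≠ 0 := fun i e => hnd i (e ▸ dvd_zero p)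
  have h2 := congrArg (fun x => Nat.factorization x p) h
  simp only [hterm] at h2
  rw [Nat.factorization_mul hpm Nat.card_pos.ne', Finsupp.add_apply,
    Nat.factorization_eq_zero_of_not_dvd hp1, zero_add,
    Nat.factorization_prod (fun i _ => mul_ne_zero (pow_ne_zero _ hp.out.ne_zero) (hne i)),
    Finset.sum_apply'] at h2
  rw [h2]
  refine Finset.sum_congr rfl fun i _ => ?_
  rw [Nat.factorization_mul (pow_ne_zero _ hp.out.ne_zero) (hne i), Finsupp.add_apply,
    Nat.factorization_eq_zero_of_not_dvd (hnd i), hp.out.factorization_pow, Finsupp.single_eq_same,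
    add_zero]

theorem sum_exponent (n : ℕ) :
    6 * ∑ i : Fin n, (n - 1 - (i : ℕ)) * ((i : ℕ) + 1) =
      n * (n - 1) * (n - 2) + 6 * ∑ i : Fin n, (i : ℕ) := by
  rw [Fin.sum_univ_eq_sum_range (fun i => (n - 1 - i) * (i + 1)), Fin.sum_univ_eq_sum_range (fun i => i)]
  have key : ∀ n, 6 * ∑ i ∈ Finset.range n, (n - 1 - i) * (i + 1) + n = n * n * n := by
    intro n
    induction n with
    | zero => rfl
    | succ n ih =>
      rw [Finset.sum_range_succ, Nat.add_sub_cancel, Nat.sub_self, zero_mul, add_zero]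
      have e : ∑ i ∈ Finset.range n, (n - i) * (i + 1) =
          (∑ i ∈ Finset.range n, (n - 1 - i) * (i + 1)) + ∑ i ∈ Finset.range n, (i + 1) := by
        rw [← Finset.sum_add_distrib]
        refine Finset.sum_congr rfl fun i hi => ?_
        rw [Finset.mem_range] at hi
        rw [show n - i = (n - 1 - i) + 1 by omega]
        ring
      rw [e]
      have e2 : ∑ i ∈ Finset.range n, (i + 1) * 2 = n * n + n := by
        have := sum_two_tri n
        simp only [add_mul, one_mul, Finset.sum_add_distrib, Finset.sum_const, Finset.card_range,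
          smul_eq_mul]
        omega
      rw [← Finset.sum_mul] at e2
      nlinarith
  have h1 := key n
  have h2 := sum_two_tri n
  rw [← Finset.sum_mul] at h2
  rcases n with - | - | n
  · rfl
  · simp
  · simp only [Nat.add_sub_cancel] at h1 h2 ⊢
    rw [show n + 1 + 1 - 2 = n by omega]
    nlinarith

/-- the degree of the Steinberg character of `GL_n(p)` is divisible by the full `p`-part -/
theorem pow_dvd_steinberg {d : ℕ} (hd : Cfsg.unipotentCharacterGL n (ZMod p) (fun _ => 1) 1 = (d : ℂ)) :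
    p ^ (∑ i : Fin n, (i : ℕ)) ∣ d := by
  classical
  have hs : ∑ _i : Fin n, 1 = n := by simp
  have h1 := GLn.unipotent_one_mul (F := ZMod p) (ν := fun _ : Fin n => 1) hs
  have h2 := GLn.det_falling p (fun i : Fin n => 1 + (i : ℕ))
  rw [ZMod.card] at h1
  set T := n * (n - 1) * (n - 2) / 6
  set A := ∏ i : Fin n, GLn.qFact p (1 + (i : ℕ))
  have hdiff : ∀ i j : Fin n, i < j →
      (GLn.qInt p (1 + (j : ℕ)) : ℂ) - (GLn.qInt p (1 + (i : ℕ)) : ℂ) =
        ((p ^ (1 + (i : ℕ)) * GLn.qInt p ((j : ℕ) - i) : ℕ) : ℂ) := fun i j hij => by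
    have := GLn.qInt_add p (1 + (i : ℕ)) ((j : ℕ) - i)
    rw [show 1 + (i : ℕ) + ((j : ℕ) - i) = 1 + (j : ℕ) by have : (i : ℕ) < j := hij; omega] at this
    rw [this]
    push_cast
    ring
  have h3 : d * A * p ^ T =
      GLn.qFact p n * ∏ i : Fin n, ∏ j ∈ Ioi i, p ^ (1 + (i : ℕ)) * GLn.qInt p ((j : ℕ) - i) := by
    apply Nat.cast_injective (R := ℂ)
    simp only [A, Nat.cast_mul, Nat.cast_prod, Nat.cast_pow]
    rw [← hd, h1, mul_assoc, h2]
    congr 1
    refine Finset.prod_congr rfl fun i _ => Finset.prod_congr rfl fun j hj => ?_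
    rw [hdiff i j (Finset.mem_Ioi.1 hj)]
    push_cast
    ring
  simp only [Finset.prod_mul_distrib, Finset.prod_const, Fin.card_Ioi, ← pow_mul,
    Finset.prod_pow_eq_pow_sum] at h3
  have hexp : ∑ i : Fin n, (1 + (i : ℕ)) * (n - 1 - (i : ℕ)) = T + ∑ i : Fin n, (i : ℕ) := by
    have h6 := sum_exponent n
    have hdvd : 6 ∣ n * (n - 1) * (n - 2) := Nat.dvd_of_mod_eq_zero (by
      have := congrArg (· % 6) h6
      simp only [Nat.mul_mod_right] at this
      omega)
    have e : ∑ i : Fin n, (1 + (i : ℕ)) * (n - 1 - (i : ℕ)) = ∑ i : Fin n, (n - 1 - (i : ℕ)) * ((i : ℕ) + 1) :=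
      Finset.sum_congr rfl fun i _ => by ring
    rw [e]
    omega
  rw [hexp, pow_add] at h3
  have hA : ¬ p ∣ A := by
    rw [hp.out.prime.dvd_finsetProd_iff]
    push Not
    exact fun i _ => not_dvd_qFact _
  have h4 : p ^ (∑ i : Fin n, (i : ℕ)) ∣ d * A := by
    refine ⟨GLn.qFact p n * ∏ i : Fin n, ∏ j ∈ Ioi i, GLn.qInt p ((j : ℕ) - i),
      Nat.eq_of_mul_eq_mul_right (pow_pos hp.out.pos T) ?_⟩
    rw [h3]
    ring
  exact (Nat.Coprime.pow_left _ (hp.out.coprime_iff_not_dvd.2 hA)).dvd_of_dvd_mul_right h4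

theorem fixedPointCharacter_center {G : Type*} [Group G] (H : Subgroup G) {z : G}
    (hz : z ∈ Subgroup.center G) (hzH : z ∈ H) :
    Cfsg.fixedPointCharacter H z = Cfsg.fixedPointCharacter H 1 := by
  simp only [Cfsg.fixedPointCharacter, Nat.cast_inj]
  refine Nat.card_congr (Equiv.setCongr (Set.ext fun c => ?_))
  induction c using QuotientGroup.induction_on with
  | H g =>
    simp only [MulAction.mem_fixedBy, one_smul, iff_true]
    show ((z * g : G) : G ⧸ H) = (g : G ⧸ H)
    rw [QuotientGroup.eq, ← Subgroup.mem_center_iff.1 hz g, _root_.mul_inv_rev, mul_assoc,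
      inv_mul_cancel, mul_one]
    exact inv_mem hzH

/-- a defect zero character trivial on the centre -/
theorem exists_full (hn : 1 ≤ n) :
    ∃ (χ : Cfsg.IrrCharacter (SpecialLinearGroup (Fin n) (ZMod p))) (d : ℕ),
      (χ : SpecialLinearGroup (Fin n) (ZMod p) → ℂ) 1 = (d : ℂ) ∧
      p ^ (Nat.card (SpecialLinearGroup (Fin n) (ZMod p))).factorization p ∣ d ∧
      ∀ z ∈ Subgroup.center (SpecialLinearGroup (Fin n) (ZMod p)),
        (χ : SpecialLinearGroup (Fin n) (ZMod p) → ℂ) z = (χ : SpecialLinearGroup (Fin n) (ZMod p) → ℂ) 1 := by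
  classical
  set GL' := GL (Fin n) (ZMod p)
  set N : Subgroup GL' := (Matrix.GeneralLinearGroup.det : GL' →* (ZMod p)ˣ).ker with hN
  set St := Cfsg.unipotentCharacterGL n (ZMod p) (fun _ => 1)
  have hsum : ∑ _i : Fin n, 1 = n := by simp
  have hSt : Cfsg.IsIrrCharacter GL' St := GLn.isIrrCharacter_unipotent monotone_const hsum
  obtain ⟨D, hD0, hD⟩ := CfsgLib.Char.IsIrrCharacter.exists_degree hSt
  have hDdvd : p ^ (∑ i : Fin n, (i : ℕ)) ∣ D := pow_dvd_steinberg hD
  haveI : Fintype N := Fintype.ofFinite _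
  obtain ⟨θ, hθ, hne⟩ := CfsgLib.Char.IsCharacter.exists_constituent
    (CfsgLib.Char.IsCharacter.restrict (CfsgLib.Char.IsIrrCharacter.isCharacter hSt) N)
    (fun h0 => CfsgLib.Char.IsIrrCharacter.apply_one_ne_zero hSt (by simpa using congrFun h0 1))
  obtain ⟨m, hm⟩ := CfsgLib.Char.IsCharacter.exists_classInner_eq_natCast'
    (CfsgLib.Char.IsCharacter.restrict (CfsgLib.Char.IsIrrCharacter.isCharacter hSt) N)
    (CfsgLib.Char.IsIrrCharacter.isCharacter hθ)
  set t := (CfsgLib.Char.inertia θ).index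
  have hdeg := CfsgLib.Char.degree_eq_mul hSt hθ hne
  have hrest := CfsgLib.Char.restrict_eq_smul_sum hSt hθ hne
  rw [hm] at hdeg hrest
  obtain ⟨d, hd0, hd⟩ := CfsgLib.Char.IsIrrCharacter.exists_degree hθ
  rw [hD, hd] at hdeg
  have hdeg' : D = m * t * d := by exact_mod_cast hdeg
  -- bound on the number of constituents
  have hidx : N.index ≤ p - 1 := by
    have h1 : N.index ∣ Nat.card (ZMod p)ˣ := by
      rw [hN, Subgroup.index_ker]
      exact Subgroup.card_subgroup_dvd_card _
    rw [Nat.card_units, Nat.card_zmod] at h1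
    exact Nat.le_of_dvd (by have := hp.out.two_le; omega) h1
  have hnorm : m * m * t ≤ N.index := by
    have h1 := CfsgLib.Char.IsIrrCharacter.classInner_eq hSt hSt
    rw [if_pos rfl, CfsgLib.Char.classInner_def] at h1
    have hR : Cfsg.classInner (fun x : N => St x) (fun x : N => St x) = ((m * m * t : ℕ) : ℂ) := by
      conv_lhs => rw [hrest]
      simp only [CfsgLib.Char.classInner_smul_left, CfsgLib.Char.classInner_smul_right,
        CfsgLib.Char.classInner_sum_left, CfsgLib.Char.classInner_sum_right, Complex.conj_natCast]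
      have key : ∀ a ∈ CfsgLib.Char.conjOrbit θ, Cfsg.IsIrrCharacter N a := fun a ha => by
        obtain ⟨g, rfl⟩ := CfsgLib.Char.mem_conjOrbit.1 ha
        exact CfsgLib.Char.isIrrCharacter_conjOn hθ g
      rw [Finset.sum_congr rfl fun x hx => show _ = (m : ℂ) by
        rw [Finset.sum_congr rfl fun i hi => CfsgLib.Char.IsIrrCharacter.classInner_eq (key i hi) (key x hx),
          Finset.sum_ite_eq', if_pos hx, mul_one]]
      rw [Finset.sum_const, nsmul_eq_mul, CfsgLib.Char.card_conjOrbit]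
      push_cast
      ring
    rw [CfsgLib.Char.classInner_def] at hR
    have e1 : ∑ x : N, Complex.normSq (St x) = (m * m * t : ℕ) * (Nat.card N : ℝ) := by
      apply Complex.ofReal_injective
      rw [Complex.ofReal_sum]
      push_cast
      have hN0 : (Nat.card N : ℂ) ≠ 0 := Nat.cast_ne_zero.2 Nat.card_pos.ne'
      field_simp at hR
      simp only [← Complex.mul_conj]
      rw [hR]
      push_cast
      ring
    have e2 : ∑ x : GL', Complex.normSq (St x) = (Nat.card GL' : ℝ) := by
      apply Complex.ofReal_injective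
      push_cast
      have hG0 : (Nat.card GL' : ℂ) ≠ 0 := Nat.cast_ne_zero.2 Nat.card_pos.ne'
      field_simp at h1
      simp only [← Complex.mul_conj]
      rw [h1]
    have e3 : ∑ x : N, Complex.normSq (St x) ≤ ∑ x : GL', Complex.normSq (St x) := by
      rw [← Finset.sum_subtype (Finset.univ.filter (· ∈ N)) (fun x => by simp)
        (fun x : GL' => Complex.normSq (St x))]
      exact Finset.sum_le_sum_of_subset_of_nonneg (Finset.subset_univ _) fun x _ _ => Complex.normSq_nonneg _
    rw [e1, e2, ← N.card_mul_index] at e3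
    push_cast at e3
    have hN0 : (0 : ℝ) < Nat.card N := by exact_mod_cast Nat.card_pos
    have e4 : ((m * m * t : ℕ) : ℝ) ≤ (N.index : ℝ) := by
      push_cast
      nlinarith
    exact_mod_cast e4
  have hm0 : 0 < m := Nat.pos_of_ne_zero fun e => hne (by rw [hm, e, Nat.cast_zero])
  have hmt : m * t < p := by
    have : m * t ≤ m * m * t := Nat.mul_le_mul_right t (Nat.le_mul_of_pos_left m hm0)
    have := hp.out.two_le
    omega
  have ht0 : 0 < t := Nat.pos_of_ne_zero Subgroup.index_ne_zero_of_finite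
  have hco : Nat.Coprime p (m * t) := hp.out.coprime_iff_not_dvd.2 fun h =>
    absurd (Nat.le_of_dvd (Nat.mul_pos hm0 ht0) h) (not_le.2 hmt)
  have hdd : p ^ (∑ i : Fin n, (i : ℕ)) ∣ d := by
    rw [hdeg'] at hDdvd
    exact (Nat.Coprime.pow_left _ hco).dvd_of_dvd_mul_left hDdvd
  -- transport to `SL_n`
  let e : SpecialLinearGroup (Fin n) (ZMod p) →* N :=
    (Matrix.SpecialLinearGroup.toGL).codRestrict N fun g => by
      rw [hN, MonoidHom.mem_ker]
      ext
      simp
  have he : Function.Surjective e := by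
    rintro ⟨g, hg⟩
    rw [hN, MonoidHom.mem_ker] at hg
    exact ⟨⟨g.1, congrArg Units.val hg⟩,
      Subtype.ext (Units.ext rfl)⟩
  refine ⟨⟨fun g => θ (e g), CfsgLib.Char.IsIrrCharacter.comp_surjective hθ e he⟩, d,
    by show θ (e 1) = _; rw [map_one, hd], by rw [card_sl_factorization hn]; exact hdd, ?_⟩
  intro z hz
  show θ (e z) = θ (e 1)
  rw [map_one]
  -- the centre lies in the kernel of the Steinberg character
  obtain ⟨r, -, hr⟩ := Matrix.SpecialLinearGroup.mem_center_iff.1 hz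
  have hzc : (e z : GL') ∈ Subgroup.center GL' := Subgroup.mem_center_iff.2 fun g => Units.ext (by
    show g.1 * z.1 = z.1 * g.1
    rw [← hr]
    ext i j
    simp [Matrix.scalar_apply, Matrix.mul_diagonal, Matrix.diagonal_mul, mul_comm])
  have hzP : ∀ ν : Fin n → ℕ, (e z : GL') ∈ Cfsg.parabolicGL n (ZMod p) ν := fun ν => by
    show ((e z : GL') : Matrix (Fin n) (Fin n) (ZMod p)).BlockTriangular _
    show z.1.BlockTriangular _
    rw [← hr, Matrix.scalar_apply]
    exact Matrix.blockTriangular_diagonal _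
  have hStz : St (e z : GL') = St 1 := by
    simp only [St, Cfsg.unipotentCharacterGL]
    refine Finset.sum_congr rfl fun κ _ => ?_
    split_ifs
    · rw [fixedPointCharacter_center _ hzc (hzP _)]
    · rfl
  have hconj : ∀ ψ ∈ CfsgLib.Char.conjOrbit θ, ψ (e z) = θ (e z) ∧ ψ 1 = θ 1 := by
    intro ψ hψ
    obtain ⟨g, rfl⟩ := CfsgLib.Char.mem_conjOrbit.1 hψ
    refine ⟨?_, CfsgLib.Char.conjOn_apply_one g θ⟩
    rw [CfsgLib.Char.conjOn_apply]
    congr 1
    apply Subtype.ext
    show g * (e z : GL') * g⁻¹ = (e z : GL')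
    rw [Subgroup.mem_center_iff.1 hzc g, mul_inv_cancel_right]
  have hz1 := congrFun hrest (e z)
  have h11 := congrFun hrest 1
  simp only [Pi.smul_apply, Finset.sum_apply, smul_eq_mul] at hz1 h11
  rw [Finset.sum_congr rfl fun ψ h => (hconj ψ h).1, Finset.sum_const, nsmul_eq_mul, hStz] at hz1
  rw [Finset.sum_congr rfl fun ψ h => (hconj ψ h).2, Finset.sum_const, nsmul_eq_mul] at h11
  simp only [OneMemClass.coe_one] at h11
  have hc : (((CfsgLib.Char.conjOrbit θ).card : ℕ) : ℂ) ≠ 0 :=
    Nat.cast_ne_zero.2 (Finset.card_ne_zero_of_mem (CfsgLib.Char.self_mem_conjOrbit θ))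
  exact mul_left_cancel₀ hc (mul_left_cancel₀ (Nat.cast_ne_zero.2 hm0.ne') (hz1.symm.trans h11))

end CfsgLib.SLBlocks
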