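import Cfsg.Agent.SLBlocks.Frame
import Cfsg.Agent.SLBlocks.Radical
import Cfsg.Agent.SLBlocks.Steinberg
import Cfsg.Agent.StDefZero.Unit
import Cfsg.Agent.BlocksB.Star.Lift
import Cfsg.Agent.BlocksB.GreenIntersection
import Cfsg.Agent.SL2Blocks.Basic
import Cfsg.Agent.Blocks.UnitRoot
import Cfsg.Agent.Blocks.Principal
import Mathlib.GroupTheory.FiniteAbelian.Duality

/-!
The number of `p`-blocks of `SL_n(p)`.
-/

set_option autoImplicit false
set_option linter.unusedSectionVars false
set_option linter.style.haveILetI false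

namespace CfsgLib.SLBlocks

open Cfsg CfsgLib.Block CfsgLib.Block.Chr
open scoped ComplexConjugate

section Central

variable {G : Type*} [Group G] [Fintype G] {M : Ideal AlgInt} {p : ℕ}

/-- the scalar by which a central element acts -/
theorem centralChar_center (χ : IrrCharacter G) {z : G} (hz : z ∈ Subgroup.center G) :
    centralChar (χ : G → ℂ) z = (χ : G → ℂ) z / (χ : G → ℂ) 1 := by
  rw [centralChar, SL2Blocks.centralizer_eq_top hz, Subgroup.index_top, Nat.cast_one, one_mul]

/-- the central character on the centre -/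
noncomputable def lamC (χ : IrrCharacter G) : Subgroup.center G →* ℂ where
  toFun z := (χ : G → ℂ) z / (χ : G → ℂ) 1
  map_one' := div_self (irr_one_ne_zero χ)
  map_mul' a b := by
    rw [Subgroup.coe_mul, irr_central_mul χ a.2, centralChar_center χ a.2, mul_div_assoc]

/-- the central character on the centre, as units -/
noncomputable def lam (χ : IrrCharacter G) : Subgroup.center G →* ℂˣ := (lamC χ).toHomUnits

theorem lam_apply (χ : IrrCharacter G) (z : Subgroup.center G) :
    (lam χ z : ℂ) = (χ : G → ℂ) z / (χ : G → ℂ) 1 := rfl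

theorem lam_eq_one {χ : IrrCharacter G}
    (h : ∀ z ∈ Subgroup.center G, (χ : G → ℂ) z = (χ : G → ℂ) 1) : lam χ = 1 := by
  ext z
  rw [lam_apply, MonoidHom.one_apply, Units.val_one, h z z.2, div_self (irr_one_ne_zero χ)]

theorem lam_eq_of_sameBlock [M.IsPrime] (hM : IsPModular p M)
    (hp : ¬ p ∣ Nat.card (Subgroup.center G)) {χ ψ : IrrCharacter G}
    (h : SameBlock M (χ : G → ℂ) (ψ : G → ℂ)) : lam χ = lam ψ := by
  ext z
  set k := Nat.card (Subgroup.center G)
  have hk : ∀ φ : IrrCharacter G, (lam φ z : ℂ) ^ k = 1 := fun φ => by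
    rw [← Units.val_pow_eq_pow_val, ← map_pow, pow_card_eq_one', map_one, Units.val_one]
  have hint : ∀ φ : IrrCharacter G, MemLocalRing M (lam φ z : ℂ) := fun φ =>
    memLocalRing_of_isIntegral (IsIntegral.of_pow (Nat.card_pos) (hk φ ▸ isIntegral_one))
  have hu : ¬ MemLocalIdeal M (lam ψ z : ℂ) := fun hm => by
    apply not_memLocalIdeal_one (M := M)
    obtain ⟨j, hj⟩ : ∃ j, k = j + 1 := ⟨k - 1, by
      have : 0 < k := Nat.card_pos; omega⟩
    rw [← hk ψ, hj, pow_succ']
    exact memLocalIdeal_mul_right hm (mem_localRing.1 (pow_mem (mem_localRing.2 (hint ψ)) j))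
  have h1 : MemLocalIdeal M ((lam χ z : ℂ) - (lam ψ z : ℂ)) := by
    rw [lam_apply, lam_apply, ← centralChar_center χ z.2, ← centralChar_center ψ z.2]
    exact h z
  have h2 := (nearOne_div (hint ψ) hu (hint χ) h1).eq_one_of_pow hM hp
    (by rw [div_pow, hk, hk, div_one])
  exact (div_eq_one_iff_eq (lam ψ z).ne_zero).1 h2

theorem exists_lam (μ : Subgroup.center G →* ℂˣ) : ∃ χ : IrrCharacter G, lam χ = μ := by
  classical
  letI := irrFintype (G := G)
  by_contra h
  push Not at h
  let f : IrrCharacter G → (Subgroup.center G →* ℂ) := fun χ => (Units.coeHom ℂ).comp (lam χ * μ⁻¹)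
  have hf : ∀ χ, f χ ≠ 1 := fun χ e => h χ (by
    have : lam χ * μ⁻¹ = 1 := MonoidHom.ext fun z => Units.ext (DFunLike.congr_fun e z)
    exact eq_of_div_eq_one (by rw [div_eq_mul_inv]; exact this))
  have key : ∀ z : Subgroup.center G,
      ∑ χ : IrrCharacter G, (χ : G → ℂ) 1 * conj ((χ : G → ℂ) 1) * f χ z =
        if z = 1 then (Nat.card G : ℂ) else 0 := by
    intro z
    have h1 := column_orth (G := G) (z : G) 1
    have hiff : IsConj (z : G) 1 ↔ z = 1 := by
      exact isConj_one_left.trans (OneMemClass.coe_eq_one)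
    simp only [hiff] at h1
    have h2 : ∀ χ : IrrCharacter G, (χ : G → ℂ) 1 * conj ((χ : G → ℂ) 1) * f χ z =
        (χ : G → ℂ) z * conj ((χ : G → ℂ) 1) * ((μ z)⁻¹ : ℂˣ) := fun χ => by
      show _ * _ * ((lam χ z * (μ z)⁻¹ : ℂˣ) : ℂ) = _
      rw [Units.val_mul, lam_apply]
      have := irr_one_ne_zero χ
      field_simp
    rw [Finset.sum_congr rfl fun χ _ => h2 χ, ← Finset.sum_mul, h1]
    split_ifs with hz
    · subst hz
      have hC : Subgroup.centralizer ({((1 : Subgroup.center G) : G)} : Set G) = ⊤ :=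
        SL2Blocks.centralizer_eq_top (Subgroup.center G).one_mem
      rw [map_one, inv_one, Units.val_one, mul_one, hC, Subgroup.card_top]
    · rw [zero_mul]
  have h3 : ∑ z : Subgroup.center G,
      ∑ χ : IrrCharacter G, (χ : G → ℂ) 1 * conj ((χ : G → ℂ) 1) * f χ z = 0 := by
    rw [Finset.sum_comm]
    refine Finset.sum_eq_zero fun χ _ => ?_
    rw [← Finset.mul_sum, sum_hom_units_eq_zero (f χ) (hf χ), mul_zero]
  rw [Finset.sum_congr rfl fun z _ => key z, Finset.sum_ite_eq', if_pos (Finset.mem_univ _)] at h3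
  exact Nat.cast_ne_zero.2 Nat.card_pos.ne' h3

theorem card_lam : Nat.card (Subgroup.center G →* ℂˣ) = Nat.card (Subgroup.center G) := by
  haveI : NeZero ((Monoid.exponent (Subgroup.center G) : ℕ) : ℂ) :=
    ⟨Nat.cast_ne_zero.2 Monoid.exponent_ne_zero_of_finite⟩
  letI : CommGroup (Subgroup.center G) :=
    { (inferInstance : Group (Subgroup.center G)) with
      mul_comm := fun a b => Subtype.ext (Subgroup.mem_center_iff.1 b.2 a) }
  exact CommGroup.card_monoidHom_of_hasEnoughRootsOfUnity (Subgroup.center G) ℂ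

end Central

variable {p : ℕ} [hp : Fact p.Prime] {m : ℕ}

local notation "G" => Matrix.SpecialLinearGroup (Fin (m + 1)) (ZMod p)

variable [Fintype (Matrix.SpecialLinearGroup (Fin (m + 1)) (ZMod p))]

theorem factorization_pos (hm : 0 < m) : 0 < (Nat.card G).factorization p := by
  rw [card_sl_factorization (Nat.succ_pos m)]
  exact Finset.sum_pos' (fun i _ => Nat.zero_le _) ⟨Fin.last m, Finset.mem_univ _, by simpa using hm⟩

theorem not_dvd_card_center : ¬ p ∣ Nat.card (Subgroup.center G) := by
  rw [CfsgLib.Linear.card_center_SL, Nat.card_zmod]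
  intro h
  have h1 := Nat.le_of_dvd (Nat.gcd_pos_of_pos_left _ (by simp)) h
  have h2 := Nat.le_of_dvd (by have := hp.out.two_le; omega)
    (Nat.gcd_dvd_right (Fintype.card (Fin (m + 1))) (p - 1))
  have := hp.out.two_le
  omega

variable {M : Ideal AlgInt} [M.IsPrime]

/-- there is only one character of full degree -/
theorem unique_full (hM : IsPModular p M) {χ ψ : IrrCharacter G}
    (hχ : DefectZero.HasFullDegree p χ) (hψ : DefectZero.HasFullDegree p ψ) : χ = ψ := by
  classical
  by_contra hne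
  haveI : CharP (Residue M) p := charP_residue hM
  obtain ⟨Fr, hFr⟩ := exists_frame (F := ZMod p) (m := m)
  haveI : Fintype Fr.U := Fintype.ofFinite _
  have hU : IsPGroup p Fr.U := by rw [hFr]; exact isPGroup_uni p
  obtain ⟨y, hy⟩ := DefectZero.unit_eq_sum hM hχ
  obtain ⟨y', hy'⟩ := DefectZero.unit_eq_sum hM hψ
  refine Fr.unique hU hy hy' (DefectZero.unit_comm χ) (DefectZero.unit_comm ψ)
    ?_ ?_ (DefectZero.unit_ne_zero hM hχ) (DefectZero.unit_ne_zero hM hψ) ?_
  · rw [DefectZero.unit_mul hM hχ hχ, if_pos rfl]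
  · rw [DefectZero.unit_mul hM hψ hψ, if_pos rfl]
  · rw [DefectZero.unit_mul hM hψ hχ, if_neg (Ne.symm hne)]

theorem defectGroup_ne_bot_full (hM : IsPModular p M) {B : Set (IrrCharacter G)} (hB : IsPBlock M B)
    {D : Subgroup G} (hD : IsDefectGroup p M B D) (hne : D ≠ ⊥) :
    Nat.card D = p ^ (Nat.card G).factorization p := by
  classical
  have hDp : IsPGroup p D := by
    obtain ⟨g, -, S, hS⟩ := hD
    rw [hS]; exact S.isPGroup'.map _
  set Q := shear (fixW D) ⊓ Subgroup.normalizer (D : Set G) with hQ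
  have hQp : IsPGroup p Q := (isPGroup_shear (F := ZMod p) p (fixW D)).to_le inf_le_left
  have hQN : Subgroup.normalizer (D : Set G) ≤ Subgroup.normalizer (Q : Set G) := by
    intro g hg
    refine Subgroup.mem_normalizer_iff.2 fun s => ?_
    rw [Subgroup.mem_inf, Subgroup.mem_inf,
      ← Subgroup.mem_normalizer_iff.1 (normalizer_le_shear D hg) s]
    exact and_congr_right fun _ => ⟨fun h => mul_mem (mul_mem hg h) (inv_mem hg), fun h => by
      simpa [mul_assoc] using mul_mem (mul_mem (inv_mem hg) h) hg⟩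
  have hK : IsPGroup p (Q ⊔ D : Subgroup G) :=
    hQp.to_sup_of_normal_left' hDp (Subgroup.le_normalizer.trans hQN)
  obtain ⟨P, hP⟩ := hK.exists_le_sylow
  obtain ⟨x, hreg, ⟨S, hS⟩, hx⟩ :=
    Green.exists_sylow_inter hM hB hD P (le_sup_right.trans hP)
  have hxD : ∀ d ∈ D, x * d = d * x := fun d hd => by
    rw [← hS] at hd
    obtain ⟨c, -, rfl⟩ := hd
    exact (Subgroup.mem_centralizer_singleton_iff.1 c.2).symm
  have hxN : x ∈ Subgroup.normalizer (D : Set G) := by
    refine Subgroup.mem_normalizer_iff.2 fun d => ⟨fun hd => ?_, fun hd => ?_⟩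
    · rwa [hxD d hd, mul_inv_cancel_right]
    · have h := hxD _ hd
      rw [mul_assoc (x * d), inv_mul_cancel, mul_one] at h
      have e : x * d * x⁻¹ = d := mul_left_cancel h
      rwa [e] at hd
  have hQD : Q ≤ D := by
    intro q hq
    rw [← hx]
    refine ⟨hP (Subgroup.mem_sup_left hq), x⁻¹ * q * x, hP (Subgroup.mem_sup_left ?_), by simp [mul_assoc]⟩
    exact (Subgroup.mem_normalizer_iff''.1 (hQN hxN) q).1 hq
  have hsh : shear (fixW D) ≤ D := shear_le hDp hQD
  have hcen : x ∈ Subgroup.center G := mem_center_of_shear (p := p) (fixW_ne_bot hDp)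
    (fixW_ne_top hne) hreg fun g hg => hxD g (hsh hg)
  rw [← hS, Subgroup.card_map_of_injective (Subgroup.subtype_injective _), S.card_eq_multiplicity,
    SL2Blocks.centralizer_eq_top hcen, Subgroup.card_top]

theorem blockDefect_full (hM : IsPModular p M) {χ : IrrCharacter G}
    (hχ : ¬ DefectZero.HasFullDegree p χ) :
    blockDefect p (blockOf M (χ : G → ℂ)) = (Nat.card G).factorization p := by
  have hB := isPBlock_blockOf (M := M) χ
  obtain ⟨D, hD⟩ := exists_defectGroup hB hM
  have hc := card_defectGroup hM hB hD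
  by_cases hne : D = ⊥
  · exfalso
    rw [hne, Subgroup.card_bot, eq_comm, Nat.pow_eq_one, or_iff_right hp.out.ne_one] at hc
    rw [blockDefect, Nat.sub_eq_zero_iff_le] at hc
    apply hχ
    show p ^ _ ∣ charDegree (χ : G → ℂ)
    exact (hp.out.pow_dvd_iff_le_factorization (irr_one χ).2.ne').2
      (hc.trans (Nat.sInf_le ⟨χ, mem_blockOf_self χ, rfl⟩))
  · exact Nat.pow_right_injective hp.out.two_le
      (hc.symm.trans (defectGroup_ne_bot_full hM hB hD hne))

/-- regular classes of full defect are central -/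
theorem mem_center_of_classDefect (hm : 0 < m) {x : G} (hx : ¬ p ∣ orderOf x)
    (hd : classDefect p x = (Nat.card G).factorization p) : x ∈ Subgroup.center G := by
  classical
  obtain ⟨S⟩ := (inferInstance : Nonempty (Sylow p (Subgroup.centralizer ({x} : Set G))))
  set Q := (S : Subgroup (Subgroup.centralizer ({x} : Set G))).map
    (Subgroup.centralizer ({x} : Set G)).subtype with hQ
  have hcard : Nat.card Q = p ^ (Nat.card G).factorization p := by
    rw [hQ, Subgroup.card_map_of_injective (Subgroup.subtype_injective _), S.card_eq_multiplicity,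
      ← hd, classDefect]
  have hne : Q ≠ ⊥ := by
    intro h
    rw [h, Subgroup.card_bot, eq_comm, Nat.pow_eq_one, or_iff_right hp.out.ne_one] at hcard
    exact (factorization_pos (p := p) hm).ne' hcard
  have hQp : IsPGroup p Q := S.isPGroup'.map _
  have hK : IsPGroup p (shear (fixW Q) ⊔ Q : Subgroup G) :=
    (isPGroup_shear (F := ZMod p) p (fixW Q)).to_sup_of_normal_left' hQp
      (Subgroup.le_normalizer.trans (normalizer_le_shear Q))
  have heq := (Sylow.ofCard Q hcard).3 hK le_sup_right
  rw [Sylow.coe_ofCard] at heq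
  have hsh : shear (fixW Q) ≤ Q := le_sup_left.trans heq.le
  refine mem_center_of_shear (p := p) (fixW_ne_bot hQp) (fixW_ne_top hne) hx fun g hg => ?_
  obtain ⟨c, -, rfl⟩ := hsh hg
  exact (Subgroup.mem_centralizer_singleton_iff.1 c.2).symm

theorem sameBlock_of_lam (hm : 0 < m) (hM : IsPModular p M) {χ ψ : IrrCharacter G}
    (hχ : ¬ DefectZero.HasFullDegree p χ) (hψ : ¬ DefectZero.HasFullDegree p ψ)
    (h : lam χ = lam ψ) : SameBlock M (χ : G → ℂ) (ψ : G → ℂ) := by
  refine sameBlock_of_defect_classes hM χ ψ (blockDefect_full hM hχ) (blockDefect_full hM hψ)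
    fun x hx hd => ?_
  have hc := mem_center_of_classDefect hm hx hd
  rw [centralChar_center χ hc, centralChar_center ψ hc, ← lam_apply χ ⟨x, hc⟩,
    ← lam_apply ψ ⟨x, hc⟩, h, sub_self]
  exact memLocalIdeal_zero

theorem blockOf_eq_of_sameBlock {χ ψ : IrrCharacter G}
    (h : SameBlock M (χ : G → ℂ) (ψ : G → ℂ)) : blockOf M (χ : G → ℂ) = blockOf M (ψ : G → ℂ) :=
  Set.ext fun _ => ⟨fun h1 => sameBlock_trans (sameBlock_symm h) h1, fun h1 => sameBlock_trans h h1⟩

theorem exists_notFull (hm : 0 < m) (hM : IsPModular p M) {St : IrrCharacter G}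
    (hSt : DefectZero.HasFullDegree p St) (hlam : lam St = 1) (μ : Subgroup.center G →* ℂˣ) :
    ∃ χ : IrrCharacter G, ¬ DefectZero.HasFullDegree p χ ∧ lam χ = μ := by
  obtain ⟨χ, hχ⟩ := exists_lam μ
  by_cases hf : DefectZero.HasFullDegree p χ
  · refine ⟨oneIrr G, fun h => ?_, ?_⟩
    · have h' : p ^ (Nat.card G).factorization p ∣ charDegree (fun _ : G => (1 : ℂ)) := h
      rw [charDegree, Complex.one_re, Nat.floor_one, Nat.dvd_one, Nat.pow_eq_one,
        or_iff_right hp.out.ne_one] at h'
      exact (factorization_pos (p := p) hm).ne' h'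
    · rw [← hχ, unique_full hM hf hSt, hlam]
      exact lam_eq_one fun z _ => rfl
  · exact ⟨χ, hf, hχ⟩

theorem card_blocks (hm : 0 < m) (hM : IsPModular p M) :
    Nat.card {B : Set (IrrCharacter G) // IsPBlock M B} = Nat.gcd (m + 1) (p - 1) + 1 := by
  classical
  obtain ⟨St, d, hd, hdvd, hz⟩ := exists_full (p := p) (n := m + 1) (Nat.succ_pos m)
  have hSt : DefectZero.HasFullDegree p St := by
    show p ^ _ ∣ charDegree _
    rw [charDegree, hd, Complex.natCast_re, Nat.floor_natCast]
    exact hdvd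
  have hlam : lam St = 1 := lam_eq_one hz
  have hsingle : blockOf M (St : G → ℂ) = {St} :=
    SL2Blocks.blockOf_eq_singleton_of_degree hM St
      ((hp.out.pow_dvd_iff_le_factorization (irr_one St).2.ne').1 hSt)
  choose c hc1 hc2 using exists_notFull hm hM hSt hlam
  let f : Option (Subgroup.center G →* ℂˣ) → {B : Set (IrrCharacter G) // IsPBlock M B} := fun o =>
    o.elim ⟨_, isPBlock_blockOf St⟩ fun μ => ⟨_, isPBlock_blockOf (c μ)⟩
  have hne : ∀ μ, blockOf M (St : G → ℂ) ≠ blockOf M (c μ : G → ℂ) := fun μ e => by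
    have h1 := mem_blockOf_self (M := M) (c μ)
    rw [← e, hsingle, Set.mem_singleton_iff] at h1
    exact hc1 μ (h1 ▸ hSt)
  have hinj : Function.Injective f := by
    rintro (- | μ) (- | ν) e
    · rfl
    · exact absurd (congrArg Subtype.val e) (hne ν)
    · exact absurd (congrArg Subtype.val e).symm (hne μ)
    · have h1 := mem_blockOf_self (M := M) (c ν)
      rw [show blockOf M (c ν : G → ℂ) = blockOf M (c μ : G → ℂ) from
        (congrArg Subtype.val e).symm] at h1
      have h2 := lam_eq_of_sameBlock hM not_dvd_card_center h1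
      rw [hc2, hc2] at h2
      rw [h2]
  have hsurj : Function.Surjective f := by
    rintro ⟨B, χ, rfl⟩
    by_cases hχ : DefectZero.HasFullDegree p χ
    · exact ⟨none, Subtype.ext (by rw [unique_full hM hχ hSt]; rfl)⟩
    · exact ⟨some (lam χ), Subtype.ext
        (blockOf_eq_of_sameBlock (sameBlock_of_lam hm hM (hc1 _) hχ (hc2 _)))⟩
  haveI : Finite (IrrCharacter G) := @Finite.of_fintype _ irrFintype
  haveI : Finite (Subgroup.center G →* ℂˣ) :=
    Finite.of_injective c fun a b e => by rw [← hc2 a, ← hc2 b, e]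
  rw [← Nat.card_congr (Equiv.ofBijective f ⟨hinj, hsurj⟩), Finite.card_option, card_lam,
    CfsgLib.Linear.card_center_SL, Fintype.card_fin, Nat.card_zmod]

end CfsgLib.SLBlocks
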