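import Cfsg.Agent.StDefZero.Frame
import Cfsg.Agent.GLn.Bruhat
import Mathlib.LinearAlgebra.Matrix.SchurComplement

/-!
The split BN-pair data of `SL_{m+1}`.
-/

set_option autoImplicit false
set_option linter.unusedSectionVars false
set_option linter.unusedSimpArgs false
set_option linter.unnecessarySeqFocus false
set_option linter.unusedVariables false

namespace CfsgLib.SLBlocks

open Matrix

variable {F : Type*} [Field F] {m : ℕ}

/-- the underlying matrix -/
abbrev mx (g : SpecialLinearGroup (Fin (m + 1)) F) : Matrix (Fin (m + 1)) (Fin (m + 1)) F := g.1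

theorem mx_mul (g h : SpecialLinearGroup (Fin (m + 1)) F) : mx (g * h) = mx g * mx h := rfl

theorem mx_inj {g h : SpecialLinearGroup (Fin (m + 1)) F} (e : mx g = mx h) : g = h := Subtype.ext e

/-! ### The unitriangular group -/

/-- upper unitriangular -/
def IsUni (A : Matrix (Fin (m + 1)) (Fin (m + 1)) F) : Prop :=
  A.BlockTriangular id ∧ ∀ i, A i i = 1

theorem isUni_one : IsUni (1 : Matrix (Fin (m + 1)) (Fin (m + 1)) F) :=
  ⟨blockTriangular_one, fun i => one_apply_eq i⟩

theorem mul_diag {A B : Matrix (Fin (m + 1)) (Fin (m + 1)) F} (hA : A.BlockTriangular id)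
    (hB : B.BlockTriangular id) (i : Fin (m + 1)) : (A * B) i i = A i i * B i i := by
  rw [Matrix.mul_apply, Finset.sum_eq_single i]
  · intro k _ hk
    rcases lt_or_gt_of_ne hk with h | h
    · rw [hA (show id k < id i from h), zero_mul]
    · rw [hB (show id i < id k from h), mul_zero]
  · simp

theorem isUni_mul {A B : Matrix (Fin (m + 1)) (Fin (m + 1)) F} (hA : IsUni A) (hB : IsUni B) :
    IsUni (A * B) :=
  ⟨hA.1.mul hB.1, fun i => by rw [mul_diag hA.1 hB.1, hA.2, hB.2, one_mul]⟩

variable [Finite F]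

instance : Finite (SpecialLinearGroup (Fin (m + 1)) F) := Subtype.finite

variable (F m) in
/-- the unitriangular subgroup -/
def uni : Subgroup (SpecialLinearGroup (Fin (m + 1)) F) where
  carrier := {g | IsUni (mx g)}
  mul_mem' := fun {a b} ha hb => by
    change IsUni (mx (a * b))
    rw [mx_mul]; exact isUni_mul ha hb
  one_mem' := isUni_one
  inv_mem' := fun {g} hg => by
    have h : ∀ k : ℕ, IsUni (mx (g ^ k)) := by
      intro k
      induction k with
      | zero => exact isUni_one
      | succ k ih => rw [pow_succ, mx_mul]; exact isUni_mul ih hg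
    change IsUni (mx g⁻¹)
    rw [show g⁻¹ = g ^ (orderOf g - 1) from inv_eq_of_mul_eq_one_right (by
      rw [← pow_succ', Nat.sub_add_cancel (orderOf_pos g), pow_orderOf_eq_one])]
    exact h _

theorem mem_uni {g : SpecialLinearGroup (Fin (m + 1)) F} : g ∈ uni F m ↔ IsUni (mx g) := Iff.rfl

theorem cs_ne_succ (i : Fin m) : i.castSucc ≠ i.succ := Fin.castSucc_lt_succ.ne

theorem uni_super_add {A B : Matrix (Fin (m + 1)) (Fin (m + 1)) F} (hA : IsUni A) (hB : IsUni B)
    (i : Fin m) : (A * B) i.castSucc i.succ = A i.castSucc i.succ + B i.castSucc i.succ := by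
  rw [Matrix.mul_apply, Finset.sum_eq_add (a := i.castSucc) (b := i.succ) (cs_ne_succ i)]
  · rw [hA.2, hB.2, one_mul, mul_one, add_comm]
  · rintro k - ⟨h1, h2⟩
    by_cases hk : k < i.castSucc
    · rw [hA.1 (show id k < id i.castSucc from hk), zero_mul]
    · have h3 : i.succ < k := by
        simp only [Fin.lt_def, Fin.val_castSucc, Fin.val_succ, ne_eq, Fin.ext_iff] at h1 h2 hk ⊢
        omega
      rw [hB.1 (show id i.succ < id k from h3), mul_zero]
  · simp
  · simp

variable (F m) in
/-- the complement of a simple root group in the unitriangular group -/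
def uniI (i : Fin m) : Subgroup (SpecialLinearGroup (Fin (m + 1)) F) where
  carrier := {g | g ∈ uni F m ∧ mx g i.castSucc i.succ = 0}
  mul_mem' := fun {a b} ha hb => ⟨mul_mem ha.1 hb.1, by
    rw [mx_mul, uni_super_add ha.1 hb.1, ha.2, hb.2, add_zero]⟩
  one_mem' := ⟨one_mem _, one_apply_ne (cs_ne_succ i)⟩
  inv_mem' := fun {g} hg => ⟨inv_mem hg.1, by
    have h := uni_super_add hg.1 (inv_mem hg.1) i
    rw [← mx_mul, mul_inv_cancel, hg.2, zero_add] at h
    rw [← h]
    exact one_apply_ne (cs_ne_succ i)⟩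

theorem mem_uniI {i : Fin m} {g : SpecialLinearGroup (Fin (m + 1)) F} :
    g ∈ uniI F m i ↔ g ∈ uni F m ∧ mx g i.castSucc i.succ = 0 := Iff.rfl

/-! ### The rank one subgroups -/

/-- the two unit columns of a simple root -/
def emb (i : Fin m) : Matrix (Fin (m + 1)) (Fin 2) F :=
  Matrix.of fun a b => if a = ![i.castSucc, i.succ] b then 1 else 0

theorem emb_transpose_mul (i : Fin m) : (emb (F := F) i)ᵀ * emb (F := F) i = 1 := by
  ext a b
  simp only [Matrix.mul_apply, transpose_apply, emb, of_apply, ite_mul, one_mul, zero_mul,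
    Finset.sum_ite_eq', Finset.mem_univ, if_true, one_apply]
  have hinj : Function.Injective ![i.castSucc, i.succ] := by
    intro a b h
    fin_cases a <;> fin_cases b <;> simp_all [cs_ne_succ, (cs_ne_succ i).symm]
  by_cases h : a = b
  · simp [h]
  · rw [if_neg h, if_neg fun e => h (hinj e)]

/-- the matrix of the embedded element -/
def embMat (i : Fin m) (A : Matrix (Fin 2) (Fin 2) F) : Matrix (Fin (m + 1)) (Fin (m + 1)) F :=
  1 + emb (F := F) i * (A - 1) * (emb (F := F) i)ᵀ

theorem embMat_mul (i : Fin m) (A B : Matrix (Fin 2) (Fin 2) F) :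
    embMat i A * embMat i B = embMat i (A * B) := by
  have h := emb_transpose_mul (F := F) i
  have h2 : emb (F := F) i * (A - 1) * (emb (F := F) i)ᵀ * (emb (F := F) i * (B - 1) * (emb (F := F) i)ᵀ) =
      emb (F := F) i * ((A - 1) * (B - 1)) * (emb (F := F) i)ᵀ := by
    calc emb (F := F) i * (A - 1) * (emb (F := F) i)ᵀ * (emb (F := F) i * (B - 1) * (emb (F := F) i)ᵀ)
        = emb (F := F) i * (A - 1) * ((emb (F := F) i)ᵀ * emb (F := F) i) * ((B - 1) * (emb (F := F) i)ᵀ) := by
          simp only [Matrix.mul_assoc]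
      _ = _ := by rw [h, Matrix.mul_one]; simp only [Matrix.mul_assoc]
  rw [embMat, embMat, embMat, Matrix.add_mul, Matrix.one_mul, Matrix.mul_add, Matrix.mul_one, h2]
  have h3 : A * B - 1 = (B - 1) + ((A - 1) + (A - 1) * (B - 1)) := by noncomm_ring
  rw [h3, Matrix.mul_add, Matrix.add_mul, Matrix.mul_add, Matrix.add_mul]
  abel

theorem det_embMat (i : Fin m) (A : Matrix (Fin 2) (Fin 2) F) : (embMat i A).det = A.det := by
  rw [embMat, Matrix.mul_assoc, Matrix.det_one_add_mul_comm, Matrix.mul_assoc, emb_transpose_mul,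
    Matrix.mul_one, add_sub_cancel]

/-- the embedding of `SL₂` at a simple root -/
def sl2 (i : Fin m) : SpecialLinearGroup (Fin 2) F →* SpecialLinearGroup (Fin (m + 1)) F where
  toFun A := ⟨embMat i A.1, by rw [det_embMat, A.2]⟩
  map_one' := mx_inj (by simp [embMat])
  map_mul' A B := mx_inj (embMat_mul i A.1 B.1).symm

/-- root elements of `SL₂` -/
def x2 (t : F) : SpecialLinearGroup (Fin 2) F := ⟨!![1, t; 0, 1], by simp [det_fin_two]⟩

/-- torus of `SL₂` -/
noncomputable def h2 (t : F) : SpecialLinearGroup (Fin 2) F :=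
  open Classical in ⟨if t = 0 then 1 else !![t, 0; 0, t⁻¹], by
    split_ifs with ht
    · simp
    · simp [det_fin_two, ht]⟩

/-- reflection of `SL₂` -/
def s2 : SpecialLinearGroup (Fin 2) F := ⟨!![0, 1; -1, 0], by simp [det_fin_two]⟩

theorem h2_coe {t : F} (ht : t ≠ 0) : (h2 t).1 = !![t, 0; 0, t⁻¹] := by
  classical
  exact if_neg ht

@[simp] theorem x2_coe (t : F) : (x2 t).1 = !![1, t; 0, 1] := rfl

@[simp] theorem s2_coe : (s2 : SpecialLinearGroup (Fin 2) F).1 = !![0, 1; -1, 0] := rfl

theorem x2_add (a b : F) : x2 (a + b) = x2 a * x2 b := by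
  apply Subtype.ext
  show (x2 (a + b)).1 = (x2 a).1 * (x2 b).1
  simp [add_comm]

theorem opp2 {q : F} (hq : q ≠ 0) :
    s2 * x2 q * s2 = x2 (-q⁻¹) * h2 (-q⁻¹) * s2 * x2 (-q⁻¹) := by
  apply Subtype.ext
  show (s2 (F := F)).1 * (x2 q).1 * (s2 (F := F)).1 =
    (x2 (-q⁻¹)).1 * (h2 (-q⁻¹)).1 * (s2 (F := F)).1 * (x2 (-q⁻¹)).1
  rw [h2_coe (neg_ne_zero.2 (inv_ne_zero hq)), x2_coe, x2_coe, s2_coe]
  ext i j
  fin_cases i <;> fin_cases j <;> simp [Matrix.mul_apply, Fin.sum_univ_two] <;> field_simp <;> ring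

theorem nh2 {t : F} (ht : t ≠ 0) : (s2 : SpecialLinearGroup (Fin 2) F) * h2 t = h2 t⁻¹ * s2 := by
  apply Subtype.ext
  show (s2 (F := F)).1 * (h2 t).1 = (h2 t⁻¹).1 * (s2 (F := F)).1
  rw [h2_coe ht, h2_coe (inv_ne_zero ht), s2_coe]
  ext i j
  fin_cases i <;> fin_cases j <;> simp [Matrix.mul_apply, Fin.sum_univ_two]

theorem nn2 : (s2 : SpecialLinearGroup (Fin 2) F) * s2 = h2 (-1) := by
  apply Subtype.ext
  show (s2 (F := F)).1 * (s2 (F := F)).1 = (h2 (-1 : F)).1
  rw [h2_coe (neg_ne_zero.2 (one_ne_zero : (1 : F) ≠ 0)), s2_coe]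
  ext i j
  fin_cases i <;> fin_cases j <;> simp [Matrix.mul_apply, Fin.sum_univ_two]

theorem embMat_apply (i : Fin m) (A : Matrix (Fin 2) (Fin 2) F) (a b : Fin (m + 1)) :
    embMat i A a b = (1 : Matrix _ _ F) a b +
      ((if a = i.castSucc ∧ b = i.castSucc then A 0 0 - 1 else 0) +
      (if a = i.castSucc ∧ b = i.succ then A 0 1 else 0) +
      (if a = i.succ ∧ b = i.castSucc then A 1 0 else 0) +
      (if a = i.succ ∧ b = i.succ then A 1 1 - 1 else 0)) := by
  simp only [embMat, Matrix.add_apply, Matrix.mul_apply, Fin.sum_univ_two, transpose_apply, emb,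
    of_apply, Matrix.sub_apply, one_apply, cons_val_zero, cons_val_one]
  congr 1
  by_cases h1 : a = i.castSucc <;> by_cases h2 : a = i.succ <;> by_cases h3 : b = i.castSucc <;>
    by_cases h4 : b = i.succ <;> simp_all [cs_ne_succ, (cs_ne_succ i).symm]

/-- root elements -/
def xr (i : Fin m) (t : F) : SpecialLinearGroup (Fin (m + 1)) F := sl2 i (x2 t)

/-- coroot elements -/
noncomputable def hr (i : Fin m) (t : F) : SpecialLinearGroup (Fin (m + 1)) F := sl2 i (h2 t)

/-- reflections -/
def sr (i : Fin m) : SpecialLinearGroup (Fin (m + 1)) F := sl2 i s2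

theorem mx_xr (i : Fin m) (t : F) (a b : Fin (m + 1)) :
    mx (xr i t) a b = if a = i.castSucc ∧ b = i.succ then t else (1 : Matrix _ _ F) a b := by
  show embMat i (!![1, t; 0, 1]) a b = _
  rw [embMat_apply]
  by_cases h : a = i.castSucc ∧ b = i.succ
  · obtain ⟨rfl, rfl⟩ := h
    simp [cs_ne_succ, (cs_ne_succ i).symm]
  · simp [h]

theorem xr_mem (i : Fin m) (t : F) : xr i t ∈ uni F m := by
  refine ⟨fun a b hab => ?_, fun a => ?_⟩
  · rw [mx_xr, if_neg, one_apply_ne (show a ≠ b from fun h => lt_irrefl _ (h ▸ hab))]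
    rintro ⟨rfl, rfl⟩
    exact absurd hab (not_lt.2 Fin.castSucc_lt_succ.le)
  · rw [mx_xr, if_neg, one_apply_eq]
    rintro ⟨rfl, h⟩
    exact cs_ne_succ i h

theorem mx_xr_super (i : Fin m) (t : F) : mx (xr i t) i.castSucc i.succ = t := by
  rw [mx_xr, if_pos ⟨rfl, rfl⟩]

/-! ### Monomial matrices -/

/-- monomial with a given permutation -/
def MonWith (σ : Equiv.Perm (Fin (m + 1))) (A : Matrix (Fin (m + 1)) (Fin (m + 1)) F) : Prop :=
  (∀ a b, a ≠ σ b → A a b = 0) ∧ ∀ b, A (σ b) b ≠ 0

theorem MonWith.mul {σ τ : Equiv.Perm (Fin (m + 1))} {A B : Matrix (Fin (m + 1)) (Fin (m + 1)) F}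
    (hA : MonWith σ A) (hB : MonWith τ B) : MonWith (σ * τ) (A * B) := by
  have h : ∀ a b, (A * B) a b = A a (τ b) * B (τ b) b := fun a b => by
    rw [Matrix.mul_apply, Finset.sum_eq_single (τ b)]
    · intro k _ hk; rw [hB.1 k b hk, mul_zero]
    · simp
  refine ⟨fun a b hab => ?_, fun b => ?_⟩
  · rw [h, hA.1 a (τ b) (by simpa using hab), zero_mul]
  · rw [h]; exact mul_ne_zero (hA.2 _) (hB.2 _)

theorem MonWith.unique {σ τ : Equiv.Perm (Fin (m + 1))} {A : Matrix (Fin (m + 1)) (Fin (m + 1)) F}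
    (hA : MonWith σ A) (hB : MonWith τ A) : σ = τ := by
  refine Equiv.ext fun b => ?_
  by_contra hne
  exact hA.2 b (hB.1 _ b hne)

theorem monWith_inv {σ : Equiv.Perm (Fin (m + 1))} {g : SpecialLinearGroup (Fin (m + 1)) F}
    (hg : MonWith σ (mx g)) : MonWith σ⁻¹ (mx g⁻¹) := by
  have h1 : mx g⁻¹ * mx g = 1 := by rw [← mx_mul, inv_mul_cancel]; rfl
  have hmul : ∀ a b, (mx g⁻¹ * mx g) a b = mx g⁻¹ a (σ b) * mx g (σ b) b := fun a b => by
    rw [Matrix.mul_apply, Finset.sum_eq_single (σ b)]
    · intro k _ hk; rw [hg.1 k b hk, mul_zero]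
    · simp
  refine ⟨fun a c hac => ?_, fun c => ?_⟩
  · obtain ⟨b, rfl⟩ := σ.surjective c
    have h2 := hmul a b
    rw [h1, one_apply_ne (fun e => hac (by rw [e]; simp))] at h2
    exact (mul_eq_zero.1 h2.symm).resolve_right (hg.2 b)
  · obtain ⟨b, rfl⟩ := σ.surjective c
    intro h0
    have h2 := hmul b b
    rw [h1, one_apply_eq, show mx g⁻¹ b (σ b) = 0 by simpa using h0, zero_mul] at h2
    exact one_ne_zero h2

/-- conjugation by a monomial matrix moves entries -/
theorem mon_conj {σ : Equiv.Perm (Fin (m + 1))} {g : SpecialLinearGroup (Fin (m + 1)) F}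
    (hg : MonWith σ (mx g)) (w : SpecialLinearGroup (Fin (m + 1)) F) (a b : Fin (m + 1)) :
    mx (g * w * g⁻¹) (σ a) (σ b) = mx g (σ a) a * mx w a b * mx g⁻¹ b (σ b) := by
  have hi := monWith_inv hg
  rw [mx_mul, mx_mul, Matrix.mul_apply, Finset.sum_eq_single b]
  · rw [Matrix.mul_apply, Finset.sum_eq_single a]
    · intro k _ hk
      rw [hg.1 _ k (fun e => hk (σ.injective e).symm), zero_mul]
    · simp
  · intro k _ hk
    rw [hi.1 k (σ b) (by simpa using hk), mul_zero]
  · simp

theorem mon_conj_diag {σ : Equiv.Perm (Fin (m + 1))} {g : SpecialLinearGroup (Fin (m + 1)) F}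
    (hg : MonWith σ (mx g)) (a : Fin (m + 1)) : mx g (σ a) a * mx g⁻¹ a (σ a) = 1 := by
  have h1 := mon_conj hg 1 a a
  rw [mul_one, mul_inv_cancel] at h1
  simpa [mx] using h1.symm

theorem mon_conj_uni {σ : Equiv.Perm (Fin (m + 1))} {g : SpecialLinearGroup (Fin (m + 1)) F}
    (hg : MonWith σ (mx g)) {w : SpecialLinearGroup (Fin (m + 1)) F}
    (h : ∀ a b, mx w a b ≠ 0 → a ≠ b → σ a < σ b) (hd : ∀ a, mx w a a = 1) :
    g * w * g⁻¹ ∈ uni F m := by
  refine ⟨fun c d hcd => ?_, fun c => ?_⟩
  · obtain ⟨a, rfl⟩ := σ.surjective c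
    obtain ⟨b, rfl⟩ := σ.surjective d
    rw [mon_conj hg]
    have hne : a ≠ b := fun e => absurd (show σ b < σ a from hcd) (by rw [e]; exact lt_irrefl _)
    by_cases h0 : mx w a b = 0
    · rw [h0]; ring
    · exact absurd (h a b h0 hne) (not_lt.2 (show σ b < σ a from hcd).le)
  · obtain ⟨a, rfl⟩ := σ.surjective c
    rw [mon_conj hg, hd, mul_one, mon_conj_diag hg]

variable (F m) in
/-- the diagonal torus -/
def tor : Subgroup (SpecialLinearGroup (Fin (m + 1)) F) where
  carrier := {g | MonWith 1 (mx g)}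
  mul_mem' := fun {a b} ha hb => by
    change MonWith 1 (mx (a * b))
    have := ha.mul hb
    rwa [one_mul, ← mx_mul] at this
  one_mem' := by
    refine ⟨fun a b h => ?_, fun b => ?_⟩
    · exact one_apply_ne (by simpa using h)
    · show (1 : Matrix (Fin (m + 1)) (Fin (m + 1)) F) ((1 : Equiv.Perm (Fin (m + 1))) b) b ≠ 0
      rw [Equiv.Perm.one_apply, one_apply_eq]; exact one_ne_zero
  inv_mem' := fun {g} hg => by
    have := monWith_inv hg
    rwa [inv_one] at this

theorem mon_sr (i : Fin m) : MonWith (Equiv.swap i.castSucc i.succ) (mx (sr i : SpecialLinearGroup (Fin (m + 1)) F)) := by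
  have h : ∀ a b, mx (sr i : SpecialLinearGroup (Fin (m + 1)) F) a b = embMat i (!![0, 1; -1, 0]) a b :=
    fun a b => rfl
  refine ⟨fun a b hab => ?_, fun b => ?_⟩
  · rw [h, embMat_apply]
    by_cases h1 : b = i.castSucc
    · subst h1
      rw [Equiv.swap_apply_left] at hab
      by_cases h2 : a = i.castSucc <;> simp [one_apply, h2, hab, cs_ne_succ, (cs_ne_succ i).symm]
    by_cases h2 : b = i.succ
    · subst h2
      rw [Equiv.swap_apply_right] at hab
      by_cases h3 : a = i.succ <;> simp [one_apply, h3, hab, cs_ne_succ, (cs_ne_succ i).symm]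
    rw [Equiv.swap_apply_of_ne_of_ne h1 h2] at hab
    simp [one_apply, h1, h2, hab]
  · rw [h, embMat_apply]
    by_cases h1 : b = i.castSucc
    · subst h1
      simp [cs_ne_succ, (cs_ne_succ i).symm]
    by_cases h2 : b = i.succ
    · subst h2
      simp [cs_ne_succ, (cs_ne_succ i).symm]
    rw [Equiv.swap_apply_of_ne_of_ne h1 h2, if_neg (fun e => h1 e.1), if_neg (fun e => h1 e.1),
      if_neg (fun e => h2 e.1), if_neg (fun e => h2 e.1), one_apply_eq]
    simp

theorem hr_mem (i : Fin m) {t : F} (ht : t ≠ 0) : hr i t ∈ tor F m := by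
  have h : ∀ a b, mx (hr i t) a b = embMat i (!![t, 0; 0, t⁻¹]) a b := fun a b => by
    show embMat i (h2 t).1 a b = _
    rw [h2_coe ht]
  refine ⟨fun a b hab => ?_, fun b => ?_⟩
  · have hab' : a ≠ b := by simpa using hab
    rw [h, embMat_apply]
    by_cases h1 : a = i.castSucc <;> by_cases h2 : a = i.succ <;> by_cases h3 : b = i.castSucc <;>
      by_cases h4 : b = i.succ <;> simp_all
  · show mx (hr i t) b b ≠ 0
    rw [h, embMat_apply]
    by_cases h1 : b = i.castSucc
    · subst h1; simpa [cs_ne_succ] using ht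
    by_cases h2 : b = i.succ
    · subst h2; simpa [(cs_ne_succ i).symm] using ht
    simp [h1, h2]

theorem mx_hr_diag (i : Fin m) {t : F} (ht : t ≠ 0) (b : Fin (m + 1)) :
    mx (hr i t) b b = if b = i.castSucc then t else if b = i.succ then t⁻¹ else 1 := by
  show embMat i (h2 t).1 b b = _
  rw [h2_coe ht, embMat_apply]
  by_cases h1 : b = i.castSucc
  · subst h1; simp [cs_ne_succ]
  by_cases h2 : b = i.succ
  · subst h2; simp [(cs_ne_succ i).symm]
  simp [h1, h2]

theorem tor_mul_diag {a b : SpecialLinearGroup (Fin (m + 1)) F} (ha : a ∈ tor F m) (hb : b ∈ tor F m)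
    (x : Fin (m + 1)) : mx (a * b) x x = mx a x x * mx b x x := by
  rw [mx_mul, Matrix.mul_apply, Finset.sum_eq_single x]
  · intro k _ hk
    rw [hb.1 k x (by simpa using hk), mul_zero]
  · simp

theorem tor_ext {a b : SpecialLinearGroup (Fin (m + 1)) F} (ha : a ∈ tor F m) (hb : b ∈ tor F m)
    (h : ∀ x, mx a x x = mx b x x) : a = b := by
  refine mx_inj (Matrix.ext fun x y => ?_)
  by_cases hxy : x = y
  · subst hxy; exact h x
  · rw [ha.1 x y (by simpa using hxy), hb.1 x y (by simpa using hxy)]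

theorem tor_le_closure : tor F m ≤ Subgroup.closure {g | ∃ (i : Fin m) (t : F), t ≠ 0 ∧ g = hr i t} := by
  suffices h : ∀ k : ℕ, ∀ d ∈ tor F m, (∀ x : Fin (m + 1), x.val + k < m → mx d x x = 1) →
      d ∈ Subgroup.closure {g | ∃ (i : Fin m) (t : F), t ≠ 0 ∧ g = hr i t} by
    intro d hd
    exact h m d hd fun x hx => absurd hx (by omega)
  intro k
  induction k with
  | zero =>
    intro d hd h1
    -- the last entry is the determinant
    have hdiag : mx d = Matrix.diagonal fun x => mx d x x := by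
      ext x y
      by_cases hxy : x = y
      · subst hxy; simp
      · rw [diagonal_apply_ne _ hxy, hd.1 x y (by simpa using hxy)]
    have hlast : mx d (Fin.last m) (Fin.last m) = 1 := by
      have h2 := d.2
      rw [show d.1 = mx d from rfl, hdiag, det_diagonal, Fin.prod_univ_castSucc,
        Finset.prod_eq_one (fun x _ => h1 x.castSucc (by simp [x.isLt])), one_mul] at h2
      exact h2
    have : d = 1 := tor_ext hd (one_mem _) fun x => by
      rw [show mx (1 : SpecialLinearGroup (Fin (m + 1)) F) x x = 1 from one_apply_eq x]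
      rcases Fin.eq_castSucc_or_eq_last x with ⟨y, rfl⟩ | rfl
      · exact h1 _ (by simp [y.isLt])
      · exact hlast
    rw [this]
    exact one_mem _
  | succ k ih =>
    intro d hd h1
    by_cases hk : k < m
    · let i : Fin m := ⟨m - (k + 1), by omega⟩
      set t := mx d i.castSucc i.castSucc
      have ht : t ≠ 0 := hd.2 i.castSucc
      have hti : t⁻¹ ≠ 0 := inv_ne_zero ht
      have hmem := hr_mem (F := F) i hti
      have h2 : hr i t⁻¹ * d ∈ Subgroup.closure {g | ∃ (i : Fin m) (t : F), t ≠ 0 ∧ g = hr i t} := by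
        refine ih _ (mul_mem hmem hd) fun x hx => ?_
        rw [tor_mul_diag hmem hd, mx_hr_diag i hti]
        by_cases hxi : x = i.castSucc
        · subst hxi
          rw [if_pos rfl, inv_mul_cancel₀ ht]
        · have hx' : x.val ≠ m - (k + 1) := fun e => hxi (Fin.ext (by simpa [i] using e))
          rw [if_neg hxi, if_neg (fun e => by
            have := congrArg Fin.val e
            simp [i] at this
            omega), one_mul]
          exact h1 x (by omega)
      have h3 := mul_mem (inv_mem (Subgroup.subset_closure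
        (show hr i t⁻¹ ∈ {g | ∃ (i : Fin m) (t : F), t ≠ 0 ∧ g = hr i t} from ⟨i, t⁻¹, hti, rfl⟩))) h2
      rwa [inv_mul_cancel_left] at h3
    · exact ih d hd fun x hx => absurd hx (by omega)

/-! ### Descent -/

/-- the number of pairs put in increasing order -/
noncomputable def len (g : SpecialLinearGroup (Fin (m + 1)) F) : ℕ :=
  Nat.card {p : Fin (m + 1) × Fin (m + 1) //
    p.1 < p.2 ∧ ∃ a b, mx g a p.1 ≠ 0 ∧ mx g b p.2 ≠ 0 ∧ a < b}

theorem len_eq {σ : Equiv.Perm (Fin (m + 1))} {g : SpecialLinearGroup (Fin (m + 1)) F}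
    (hg : MonWith σ (mx g)) :
    len g = (Finset.univ.filter fun p : Fin (m + 1) × Fin (m + 1) => p.1 < p.2 ∧ σ p.1 < σ p.2).card := by
  classical
  rw [len, Nat.card_eq_fintype_card, Fintype.card_subtype]
  congr 1
  refine Finset.filter_congr fun p _ => and_congr_right fun _ => ?_
  constructor
  · rintro ⟨a, b, ha, hb, hab⟩
    rw [show σ p.1 = a from (by_contra fun h => ha (hg.1 a p.1 (Ne.symm h))),
      show σ p.2 = b from (by_contra fun h => hb (hg.1 b p.2 (Ne.symm h)))]
    exact hab
  · intro h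
    exact ⟨_, _, hg.2 _, hg.2 _, h⟩

theorem swap_count {σ : Equiv.Perm (Fin (m + 1))} {i : Fin m} (h : σ i.castSucc < σ i.succ) :
    (Finset.univ.filter fun p : Fin (m + 1) × Fin (m + 1) =>
        p.1 < p.2 ∧ (σ * Equiv.swap i.castSucc i.succ) p.1 < (σ * Equiv.swap i.castSucc i.succ) p.2).card <
      (Finset.univ.filter fun p : Fin (m + 1) × Fin (m + 1) => p.1 < p.2 ∧ σ p.1 < σ p.2).card := by
  classical
  set τ := Equiv.swap i.castSucc i.succ with hτ
  have hτv : ∀ x : Fin (m + 1), (τ x).val = if x.val = i.val then i.val + 1 else if x.val = i.val + 1 then i.val else x.val := by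
    intro x
    by_cases h1 : x = i.castSucc
    · subst h1; simp [hτ]
    by_cases h2 : x = i.succ
    · subst h2; simp [hτ]
    have e1 : x.val ≠ i.val := fun e => h1 (Fin.ext (by simpa using e))
    have e2 : x.val ≠ i.val + 1 := fun e => h2 (Fin.ext (by simpa using e))
    simp [hτ, Equiv.swap_apply_of_ne_of_ne h1 h2, e1, e2]
  have hsub : (Finset.univ.filter fun p : Fin (m + 1) × Fin (m + 1) =>
        p.1 < p.2 ∧ (σ * τ) p.1 < (σ * τ) p.2).image (fun p => (τ p.1, τ p.2)) ⊆
      ((Finset.univ.filter fun p : Fin (m + 1) × Fin (m + 1) => p.1 < p.2 ∧ σ p.1 < σ p.2).erase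
        (i.castSucc, i.succ)) := by
    intro p hp
    simp only [Finset.mem_image, Finset.mem_filter, Finset.mem_univ, true_and] at hp
    obtain ⟨⟨a, b⟩, ⟨hab, hs⟩, rfl⟩ := hp
    simp only [Equiv.Perm.mul_apply] at hs
    have hnot : ¬ (a.val = i.val ∧ b.val = i.val + 1) := by
      rintro ⟨ea, eb⟩
      have ea' : a = i.castSucc := Fin.ext (by simpa using ea)
      have eb' : b = i.succ := Fin.ext (by simpa using eb)
      subst ea' eb'
      rw [hτ, Equiv.swap_apply_left, Equiv.swap_apply_right] at hs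
      exact lt_asymm h hs
    have hlt : τ a < τ b := by
      rw [Fin.lt_def] at hab ⊢
      dsimp only at hab hnot ⊢
      rw [hτv, hτv]
      split_ifs <;> omega
    refine Finset.mem_erase.2 ⟨?_, Finset.mem_filter.2 ⟨Finset.mem_univ _, hlt, hs⟩⟩
    intro e
    simp only [Prod.mk.injEq] at e
    have ea : a = i.succ := by
      have := congrArg τ e.1
      rwa [hτ, Equiv.swap_apply_self, Equiv.swap_apply_left] at this
    have eb : b = i.castSucc := by
      have := congrArg τ e.2
      rwa [hτ, Equiv.swap_apply_self, Equiv.swap_apply_right] at this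
    subst ea eb
    exact absurd hab (not_lt.2 Fin.castSucc_lt_succ.le)
  have hinj : Function.Injective fun p : Fin (m + 1) × Fin (m + 1) => (τ p.1, τ p.2) := by
    intro p q e
    simp only [Prod.mk.injEq] at e
    exact Prod.ext (τ.injective e.1) (τ.injective e.2)
  have hcard := Finset.card_le_card hsub
  rw [Finset.card_image_of_injective _ hinj] at hcard
  refine lt_of_le_of_lt hcard (Finset.card_erase_lt_of_mem ?_)
  simp [Fin.castSucc_lt_succ, h]

theorem eq_rev_or_exists (σ : Equiv.Perm (Fin (m + 1))) :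
    σ = Fin.revPerm ∨ ∃ i : Fin m, σ i.castSucc < σ i.succ := by
  by_cases h : ∃ i : Fin m, σ i.castSucc < σ i.succ
  · exact Or.inr h
  left
  have hanti : StrictAnti σ := Fin.strictAnti_iff_succ_lt.2 fun i =>
    lt_of_le_of_ne (not_lt.1 fun hh => h ⟨i, hh⟩) fun e => cs_ne_succ i (σ.injective e).symm
  have hmono : StrictMono (fun x => Fin.revPerm (σ x)) := fun a b hab => by
    simpa using hanti hab
  have hid : (StrictMono.orderIsoOfSurjective _ hmono ((σ.trans Fin.revPerm).surjective)) =
      OrderIso.refl (Fin (m + 1)) := Subsingleton.elim _ _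
  refine Equiv.ext fun x => ?_
  have : Fin.revPerm (σ x) = id x := DFunLike.congr_fun hid x
  simp only [Fin.revPerm_apply, id_eq] at this
  rw [Fin.revPerm_apply, ← Fin.rev_rev (σ x), this]

theorem exists_mon (σ : Equiv.Perm (Fin (m + 1))) :
    ∃ g : SpecialLinearGroup (Fin (m + 1)) F, MonWith σ (mx g) := by
  classical
  set d : F := (CfsgLib.GLn.permMat F σ).det
  have hd : d ≠ 0 := by
    have := (CfsgLib.GLn.permGL F σ).isUnit
    exact (Matrix.isUnit_iff_isUnit_det _).1 this |>.ne_zero
  refine ⟨⟨CfsgLib.GLn.permMat F σ * Matrix.diagonal (fun x => if x = 0 then d⁻¹ else 1), ?_⟩, ?_, ?_⟩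
  · rw [det_mul, det_diagonal, Finset.prod_ite_eq' Finset.univ (0 : Fin (m + 1)) (fun _ => d⁻¹),
      if_pos (Finset.mem_univ _), mul_inv_cancel₀ hd]
  · intro a b hab
    simp [mx, CfsgLib.GLn.permMat, Ne.symm hab]
  · intro b
    simp only [mx, mul_diagonal, CfsgLib.GLn.permMat, of_apply, if_true, one_mul]
    split_ifs
    · exact inv_ne_zero hd
    · exact one_ne_zero

theorem bruhat (g : SpecialLinearGroup (Fin (m + 1)) F) :
    ∃ u ∈ uni F m, ∃ n ∈ {n : SpecialLinearGroup (Fin (m + 1)) F | ∃ σ, MonWith σ (mx n)},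
      ∃ u' ∈ uni F m, g = u * n * u' := by
  classical
  obtain ⟨s, b, hb, c, hc, e⟩ := CfsgLib.GLn.exists_bruhat (Matrix.SpecialLinearGroup.toGL g)
  set B : Matrix (Fin (m + 1)) (Fin (m + 1)) F := b.1
  set C : Matrix (Fin (m + 1)) (Fin (m + 1)) F := c.1
  have hB : B.BlockTriangular id := hb
  have hC : C.BlockTriangular id := hc
  have hdet : ∀ {M : Matrix (Fin (m + 1)) (Fin (m + 1)) F}, M.BlockTriangular id → M.det = ∏ i, M i i :=
    fun hM => det_of_isUpperTriangular hM
  have hBd : ∀ i, B i i ≠ 0 := fun i h => by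
    have := (Matrix.isUnit_iff_isUnit_det _).1 b.isUnit
    rw [hdet hB] at this
    exact (Finset.prod_ne_zero_iff.1 this.ne_zero) i (Finset.mem_univ i) h
  have hCd : ∀ i, C i i ≠ 0 := fun i h => by
    have := (Matrix.isUnit_iff_isUnit_det _).1 c.isUnit
    rw [hdet hC] at this
    exact (Finset.prod_ne_zero_iff.1 this.ne_zero) i (Finset.mem_univ i) h
  set dB := fun i => B i i
  set dC := fun i => C i i
  set U1 := B * diagonal (fun i => (dB i)⁻¹)
  set U2 := diagonal (fun i => (dC i)⁻¹) * C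
  have hU1 : IsUni U1 := ⟨hB.mul (blockTriangular_diagonal _), fun i => by
    simp [U1, dB, mul_diagonal, hBd i]⟩
  have hU2 : IsUni U2 := ⟨(blockTriangular_diagonal _).mul hC, fun i => by
    simp [U2, dC, diagonal_mul, hCd i]⟩
  have hdu : ∀ {M : Matrix (Fin (m + 1)) (Fin (m + 1)) F}, IsUni M → M.det = 1 := fun hM => by
    rw [hdet hM.1]; exact Finset.prod_eq_one fun i _ => hM.2 i
  set Nm := diagonal dB * CfsgLib.GLn.permMat F s * diagonal dC
  have hB1 : U1 * diagonal dB = B := by
    rw [Matrix.mul_assoc, diagonal_mul_diagonal]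
    simp [dB, hBd]
  have hC1 : diagonal dC * U2 = C := by
    rw [← Matrix.mul_assoc, diagonal_mul_diagonal]
    simp [dC, hCd]
  have hprod : U1 * Nm * U2 = mx g := by
    calc U1 * Nm * U2 = (U1 * diagonal dB) * CfsgLib.GLn.permMat F s * (diagonal dC * U2) := by
          simp only [Nm, Matrix.mul_assoc]
      _ = B * CfsgLib.GLn.permMat F s * C := by rw [hB1, hC1]
      _ = mx g := by
          have e' := congrArg (fun x : GL (Fin (m + 1)) F => (x : Matrix (Fin (m + 1)) (Fin (m + 1)) F)) e
          simp only [Units.val_mul] at e'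
          exact e'.symm
  have hN : Nm.det = 1 := by
    have := congrArg Matrix.det hprod
    rw [det_mul, det_mul, hdu hU1, hdu hU2, one_mul, mul_one] at this
    rw [this]; exact g.2
  refine ⟨⟨U1, hdu hU1⟩, hU1, ⟨Nm, hN⟩, ⟨s, ?_, ?_⟩, ⟨U2, hdu hU2⟩, hU2, mx_inj hprod.symm⟩
  · intro a x hax
    simp [mx, Nm, mul_diagonal, diagonal_mul, CfsgLib.GLn.permMat, Ne.symm hax]
  · intro x
    simp [mx, Nm, mul_diagonal, diagonal_mul, CfsgLib.GLn.permMat, dB, dC, hBd, hCd]

theorem exists_frame [Fintype F] :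
    ∃ Fr : CfsgLib.DefectZero.Frame (SpecialLinearGroup (Fin (m + 1)) F) F (Fin m), Fr.U = uni F m := by
  obtain ⟨n0, hn0⟩ := exists_mon (F := F) (Fin.revPerm : Equiv.Perm (Fin (m + 1)))
  have hn0i := monWith_inv hn0
  refine ⟨{
    U := uni F m
    H := tor F m
    N := {n | ∃ σ, MonWith σ (mx n)}
    n0 := n0
    len := len
    Ui := uniI F m
    s := sr
    x := xr
    h := hr
    comm := fun a ha b hb => tor_ext (mul_mem ha hb) (mul_mem hb ha) fun x => by
      rw [tor_mul_diag ha hb, tor_mul_diag hb ha, mul_comm]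
    norm := fun t ht u hu => mon_conj_uni ht (fun a b h hne => by
      simp only [Equiv.Perm.one_apply]
      rcases lt_or_gt_of_ne hne with h' | h'
      · exact h'
      · exact absurd (hu.1 (show id b < id a from h')) h) hu.2
    bruhat := bruhat
    descend := ?_
    le := fun i a ha => ha.1
    x_mem := xr_mem
    x_add := fun i a b => by rw [xr, x2_add, map_mul]; rfl
    x_inj := fun i t ht => by rw [← mx_xr_super (F := F) i t]; exact ht.2
    x_norm := fun i t w hw => ⟨mul_mem (mul_mem (inv_mem (xr_mem i t)) hw.1) (xr_mem i t), by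
      have h1 := uni_super_add (inv_mem (xr_mem i t)) (xr_mem i t) i
      rw [← mx_mul, inv_mul_cancel,
        show mx (1 : SpecialLinearGroup (Fin (m + 1)) F) i.castSucc i.succ = 0 from
          one_apply_ne (cs_ne_succ i)] at h1
      rw [mx_mul, mx_mul, uni_super_add (isUni_mul (inv_mem (xr_mem i t)) hw.1) (xr_mem i t),
        uni_super_add (inv_mem (xr_mem i t)) hw.1, hw.2, add_zero, ← h1]⟩
    s_norm := ?_
    split := ?_
    turn := ?_
    h_mem := fun i t ht => hr_mem i ht
    h_one := fun i => by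
      have : (h2 (1 : F)) = 1 := by
        apply Subtype.ext
        rw [h2_coe one_ne_zero, inv_one]
        exact one_fin_two.symm
      rw [hr, this, map_one]
    h_gen := tor_le_closure
    nh := fun i t ht => by rw [sr, hr, hr, ← map_mul, ← map_mul, nh2 ht]
    nn := fun i => by rw [sr, hr, ← map_mul, nn2]
    opp := fun i q hq => by
      simp only [sr, xr, hr, ← map_mul, opp2 hq]
  }, rfl⟩
  · rintro n ⟨σ, hσ⟩
    rcases eq_rev_or_exists σ with h | ⟨i, hi⟩
    · left
      subst h
      refine ⟨n0⁻¹ * n, ?_, (mul_inv_cancel_left n0 n).symm⟩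
      show MonWith 1 (mx (n0⁻¹ * n))
      have := hn0i.mul hσ
      rwa [inv_mul_cancel, ← mx_mul] at this
    · right
      have hns : MonWith (σ * Equiv.swap i.castSucc i.succ) (mx (n * sr i)) := by
        rw [mx_mul]; exact hσ.mul (mon_sr i)
      refine ⟨i, ⟨_, hns⟩, ?_, fun q => mon_conj_uni hσ (fun a b h hne => ?_) (xr_mem i q).2⟩
      · rw [len_eq hns, len_eq hσ]
        exact swap_count hi
      · rw [mx_xr] at h
        split_ifs at h with hab
        · obtain ⟨rfl, rfl⟩ := hab
          exact hi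
        · exact absurd (one_apply_ne hne) h
  · intro i w hw
    have hs := mon_sr (F := F) i
    have hsi := monWith_inv hs
    rw [Equiv.swap_inv] at hsi
    set τ := Equiv.swap i.castSucc i.succ with hτ
    have key : ∀ a b, mx w a b ≠ 0 → a ≠ b → τ a < τ b := by
      intro a b h hne
      have hab : a < b := by
        rcases lt_or_gt_of_ne hne with h' | h'
        · exact h'
        · exact absurd (hw.1.1 (show id b < id a from h')) h
      have hnot : ¬ (a = i.castSucc ∧ b = i.succ) := by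
        rintro ⟨rfl, rfl⟩
        exact h hw.2
      rw [hτ]
      by_cases h1 : a = i.castSucc
      · subst h1
        have h2 : b ≠ i.succ := fun e => hnot ⟨rfl, e⟩
        have h3 : b ≠ i.castSucc := fun e => hne e.symm
        rw [Equiv.swap_apply_left, Equiv.swap_apply_of_ne_of_ne h3 h2]
        simp only [Fin.lt_def, Fin.val_castSucc, Fin.val_succ, ne_eq, Fin.ext_iff] at hab h2 ⊢
        omega
      by_cases h2 : a = i.succ
      · subst h2
        have h3 : b ≠ i.castSucc := fun e => absurd hab (not_lt.2 (e ▸ Fin.castSucc_lt_succ.le))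
        rw [Equiv.swap_apply_right, Equiv.swap_apply_of_ne_of_ne h3 hne.symm]
        simp only [Fin.lt_def, Fin.val_castSucc, Fin.val_succ] at hab ⊢
        omega
      rw [Equiv.swap_apply_of_ne_of_ne h1 h2]
      by_cases h3 : b = i.castSucc
      · subst h3
        rw [Equiv.swap_apply_left]
        exact hab.trans Fin.castSucc_lt_succ
      by_cases h4 : b = i.succ
      · subst h4
        rw [Equiv.swap_apply_right]
        simp only [Fin.lt_def, Fin.val_castSucc, Fin.val_succ, ne_eq, Fin.ext_iff] at hab h1 ⊢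
        omega
      rwa [Equiv.swap_apply_of_ne_of_ne h3 h4]
    have hmem := mon_conj_uni hsi key hw.1.2
    rw [inv_inv] at hmem
    refine ⟨hmem, ?_⟩
    have h := mon_conj hsi w i.succ i.castSucc
    rw [inv_inv, Equiv.swap_apply_right, Equiv.swap_apply_left] at h
    rw [h, hw.1.1 (show id i.castSucc < id i.succ from Fin.castSucc_lt_succ)]
    ring
  · intro i u hu
    refine ⟨u * xr i (-(mx u i.castSucc i.succ)), ⟨mul_mem hu (xr_mem i _), ?_⟩,
      mx u i.castSucc i.succ, ?_⟩
    · rw [mx_mul, uni_super_add hu (xr_mem i _), mx_xr_super, add_neg_cancel]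
    · rw [mul_assoc, xr, xr, ← map_mul, ← x2_add, neg_add_cancel,
        show x2 (0 : F) = 1 from Subtype.ext one_fin_two.symm, map_one, mul_one]
  · intro i t
    have hm := hn0.mul (monWith_inv (mon_sr (F := F) i))
    rw [← mx_mul] at hm
    refine mon_conj_uni hm (fun a b h hne => ?_) (xr_mem i t).2
    rw [mx_xr] at h
    split_ifs at h with hab
    · obtain ⟨rfl, rfl⟩ := hab
      simp [Equiv.Perm.mul_apply, Fin.castSucc_lt_succ]
    · exact absurd (one_apply_ne hne) h

theorem isPGroup_uni [Fintype F] (p : ℕ) [Fact p.Prime] [CharP F p] : IsPGroup p (uni F m) := by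
  intro g
  refine ⟨m + 1, ?_⟩
  apply Subtype.ext
  apply mx_inj
  have hg : IsUni (mx (g : SpecialLinearGroup (Fin (m + 1)) F)) := g.2
  set N := mx (g : SpecialLinearGroup (Fin (m + 1)) F) - 1 with hN
  have hNt : ∀ k : ℕ, ∀ a b : Fin (m + 1), b.val < a.val + k → (N ^ k) a b = 0 := by
    intro k
    induction k with
    | zero =>
      intro a b h
      rw [pow_zero]
      exact one_apply_ne (fun e => by rw [e] at h; omega)
    | succ k ih =>
      intro a b h
      rw [pow_succ, Matrix.mul_apply]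
      refine Finset.sum_eq_zero fun c _ => ?_
      by_cases hc : c.val < a.val + k
      · rw [ih a c hc, zero_mul]
      · have hN0 : N c b = 0 := by
          rw [hN, Matrix.sub_apply]
          rcases lt_or_eq_of_le (show b.val ≤ c.val by omega) with h' | h'
          · rw [hg.1 (show id b < id c from h'), one_apply_ne (Ne.symm (Fin.ne_of_val_ne h'.ne)), sub_zero]
          · rw [Fin.ext h', hg.2, one_apply_eq, sub_self]
        rw [hN0, mul_zero]
  have hnil : N ^ (m + 1) = 0 := Matrix.ext fun a b => hNt (m + 1) a b (by omega)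
  have : CharP (Matrix (Fin (m + 1)) (Fin (m + 1)) F) p := Matrix.charP _
  have hpow : mx ((g : SpecialLinearGroup (Fin (m + 1)) F) ^ p ^ (m + 1)) =
      mx (g : SpecialLinearGroup (Fin (m + 1)) F) ^ p ^ (m + 1) := by
    generalize p ^ (m + 1) = k
    induction k with
    | zero => rw [pow_zero, pow_zero]; rfl
    | succ k ih => rw [pow_succ, mx_mul, ih, pow_succ]
  rw [Subgroup.coe_pow, hpow, Subgroup.coe_one,
    show mx (g : SpecialLinearGroup (Fin (m + 1)) F) = N + 1 by rw [hN, sub_add_cancel],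
    add_pow_char_pow_of_commute _ _ (Commute.one_right N), one_pow]
  rw [pow_eq_zero_of_le (Nat.lt_pow_self (Fact.out : p.Prime).one_lt).le hnil, zero_add]
  rfl

end CfsgLib.SLBlocks
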